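import Cfsg.Agent.Lib.PGroup.FourPrimes.Basic

/-!
# An element conjugate to its product with a fixed-point-free line
-/

set_option autoImplicit false
set_option linter.style.haveILetI false

namespace CfsgLib.PGroup.FourPrimes

open Subgroup CfsgLib.Coprime

universe u

variable {G : Type u} [Group G] [Finite G]

/-- Elements of odd prime exponent `p` with central commutator have product of exponent `p`. -/
theorem mul_pow_prime_eq_one {p : ℕ} (hp : p.Prime) (hp2 : p ≠ 2) {u w c : G} (hswap : w * u = u * w * c)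
    (hcu : Commute c u) (hcw : Commute c w) (hu : u ^ p = 1) (hw : w ^ p = 1) (hc : c ^ p = 1) :
    (u * w) ^ p = 1 := by
  have h1 : ∀ n : ℕ, w ^ n * u = u * w ^ n * c ^ n := by
    intro n
    induction n with
    | zero => simp
    | succ n ih =>
      calc w ^ (n + 1) * u = w * (w ^ n * u) := by rw [pow_succ', mul_assoc]
        _ = (w * u) * (w ^ n * c ^ n) := by rw [ih]; group
        _ = u * w * c * w ^ n * c ^ n := by rw [hswap]; group
        _ = u * w * w ^ n * c * c ^ n := by rw [mul_assoc (u * w) c, (hcw.pow_right n).eq, ← mul_assoc]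
        _ = u * w ^ (n + 1) * c ^ (n + 1) := by rw [pow_succ' w n, pow_succ' c n]; group
  have h2 : ∀ n : ℕ, (u * w) ^ n = u ^ n * w ^ n * c ^ (n.choose 2) := by
    intro n
    induction n with
    | zero => simp
    | succ n ih =>
      have hcuw : Commute (c ^ n.choose 2) (u * w) := (hcu.mul_right hcw).pow_left _
      have hcw' : Commute (c ^ n) w := hcw.pow_left n
      calc (u * w) ^ (n + 1) = u ^ n * w ^ n * c ^ (n.choose 2) * (u * w) := by rw [pow_succ, ih]
        _ = u ^ n * (w ^ n * u) * w * c ^ (n.choose 2) := by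
          rw [mul_assoc (u ^ n * w ^ n), hcuw.eq]; group
        _ = u ^ n * u * w ^ n * (c ^ n * w) * c ^ (n.choose 2) := by rw [h1]; group
        _ = u ^ (n + 1) * w ^ (n + 1) * c ^ ((n + 1).choose 2) := by
          rw [hcw'.eq, Nat.choose_succ_succ, Nat.choose_one_right, pow_add, pow_succ u, pow_succ w]
          group
  obtain ⟨j, hj⟩ := Nat.Prime.dvd_choose_self hp (by norm_num : (2 : ℕ) ≠ 0)
    (lt_of_le_of_ne hp.two_le hp2.symm)
  rw [h2, hu, hw, hj, pow_mul, hc, one_pow, one_mul, one_mul]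

/-- If `e` is conjugate to `e h`, with `h` generating a line without fixed points in `R`, then `e`
fixes a nontrivial element of `R`. -/
theorem exists_fixed_of_config {q : ℕ} [hq : Fact q.Prime] {R : Subgroup G} {b e g h : G}
    (hRn : R.Normal) (hqR : ¬ q ∣ Nat.card R) (hR0 : R ≠ ⊥) (hbo : orderOf b = q) (heo : orderOf e = q)
    (heb : Commute e b) (hgb : Commute g b) (hh : h ∈ zpowers b) (hh1 : h ≠ 1)
    (hconj : g * e * g⁻¹ = e * h) (hfree : ∀ u ∈ R, Commute b u → u = 1) :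
    ∃ u ∈ R, u ≠ 1 ∧ Commute e u := by
  have hebn : e ∉ zpowers b := by
    rintro ⟨i, rfl⟩
    rw [(hgb.zpow_right i).eq, mul_inv_cancel_right] at hconj
    exact hh1 (by simpa using hconj)
  have hb1 : b ≠ 1 := fun h1 => by rw [h1, orderOf_one] at hbo; exact hq.out.ne_one hbo.symm
  have hP := plane_of_pair hq.out (hbo ▸ pow_orderOf_eq_one b) (heo ▸ pow_orderOf_eq_one e) hb1
    heb.symm hebn
  have hgh : ∀ x ∈ zpowers b, Commute g x := fun x hx => by
    obtain ⟨i, rfl⟩ := hx; exact hgb.zpow_right i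
  have heh : ∀ x ∈ zpowers b, Commute e x := fun x hx => by
    obtain ⟨i, rfl⟩ := hx; exact heb.zpow_right i
  have hpow : ∀ x ∈ zpowers b, x ^ q = 1 := fun x hx => by
    obtain ⟨j, rfl⟩ := hx
    rw [← zpow_natCast, ← zpow_mul, mul_comm, zpow_mul, zpow_natCast, ← hbo, pow_orderOf_eq_one,
      one_zpow]
  have hiter : ∀ m : ℕ, g ^ m * e * (g ^ m)⁻¹ = e * h ^ m := by
    intro m
    induction m with
    | zero => simp
    | succ m ih =>
      calc g ^ (m + 1) * e * (g ^ (m + 1))⁻¹ = g * (g ^ m * e * (g ^ m)⁻¹) * g⁻¹ := by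
            rw [pow_succ']; group
        _ = (g * e * g⁻¹) * (g * h ^ m * g⁻¹) := by rw [ih]; group
        _ = e * h ^ (m + 1) := by
          rw [hconj, (hgh _ (pow_mem hh m)).eq, mul_inv_cancel_right, pow_succ', mul_assoc]
  obtain ⟨x, hx, hxo, u, hu, hu1, hxu⟩ := hP.exists_fixed (R := R)
    (by rw [normalizer_eq_top]; exact le_top) hqR hR0
  have hle : closure ({b, e} : Set G) ≤ zpowers b ⊔ zpowers e := (closure_le _).2 (by
    rintro v (rfl | rfl)
    exacts [mem_sup_left (mem_zpowers _), mem_sup_right (mem_zpowers _)])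
  obtain ⟨n, hn, k, hk, rfl⟩ := mem_sup_exists (N := zpowers b) (H := zpowers e)
    (zpowers_le.2 (centralizer_le_normalizer _
      (mem_centralizer_iff.2 fun v hv => (heh v hv).symm.eq))) (hle hx)
  obtain ⟨i, rfl⟩ := mem_powers_iff_mem_zpowers.2 hk
  replace hxu : Commute (n * e ^ i) u := hxu
  replace hxo : orderOf (n * e ^ i) = q := hxo
  have hei : e ^ i ≠ 1 := fun h0 => hu1 (hfree u hu (by
    rw [show (e ^ i : G) = 1 from h0, mul_one] at hxu hxo
    exact (commute_of_mem_zpowers (hbo ▸ hq.out) hn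
      (fun h1 => by rw [h1, orderOf_one] at hxo; exact hq.out.ne_one hxo.symm) hxu.symm).symm))
  have hhi : h ^ i ≠ 1 := fun h0 => hei (by
    refine orderOf_dvd_iff_pow_eq_one.1 ?_
    rw [heo, ← orderOf_eq_prime (hpow h hh) hh1]
    exact orderOf_dvd_iff_pow_eq_one.2 h0)
  have hgen : n ∈ zpowers (h ^ i) := by
    have h1 : zpowers (h ^ i) = zpowers b := eq_of_le_of_card_ge (zpowers_le.2 (pow_mem hh i)) (by
      rw [Nat.card_zpowers, Nat.card_zpowers, hbo, orderOf_eq_prime (hpow _ (pow_mem hh i)) hhi])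
    exact h1 ▸ hn
  obtain ⟨m, hm⟩ := mem_powers_iff_mem_zpowers.2 hgen
  have hx' : g ^ m * e ^ i * (g ^ m)⁻¹ = n * e ^ i := by
    rw [← conj_pow, hiter, (heh h hh).pow_right m |>.mul_pow, ← pow_mul, mul_comm m i, pow_mul,
      show (h ^ i) ^ m = n from hm, ((heh n hn).pow_left i).eq]
  have hxu' : Commute (g ^ m * e ^ i * (g ^ m)⁻¹) u := hx'.symm ▸ hxu
  refine ⟨(g ^ m)⁻¹ * u * g ^ m, by simpa using hRn.conj_mem u hu (g ^ m)⁻¹, fun h0 => hu1 ?_, ?_⟩
  · calc u = g ^ m * ((g ^ m)⁻¹ * u * g ^ m) * (g ^ m)⁻¹ := by group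
      _ = 1 := by rw [h0]; group
  · refine (commute_of_mem_zpowers (heo ▸ hq.out) (npow_mem_zpowers e i) hei ?_).symm
    refine (show Commute (e ^ i) ((g ^ m)⁻¹ * u * g ^ m) from ?_).symm
    calc e ^ i * ((g ^ m)⁻¹ * u * g ^ m)
        = (g ^ m)⁻¹ * ((g ^ m * e ^ i * (g ^ m)⁻¹) * u) * g ^ m := by group
      _ = (g ^ m)⁻¹ * (u * (g ^ m * e ^ i * (g ^ m)⁻¹)) * g ^ m := by rw [hxu'.eq]
      _ = (g ^ m)⁻¹ * u * g ^ m * e ^ i := by group

end CfsgLib.PGroup.FourPrimes
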