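import Cfsg.Agent.Lib.PGroup.FourPrimes.TwoModules

/-!
# Two normal subgroups for different primes: conclusion
-/

set_option autoImplicit false
set_option linter.style.haveILetI false
set_option linter.unusedSectionVars false

namespace CfsgLib.PGroup.FourPrimes

open Subgroup CfsgLib.Coprime
open scoped commutatorElement

universe u

variable {G : Type u} [Group G] [Finite G] {p r q s : ℕ} {U V K : Subgroup G}

/-- The `t`-core of `K`, as a subgroup of `G`. -/
abbrev coreOf (K : Subgroup G) (t : ℕ) : Subgroup G := (Cfsg.pCore t K).map K.subtype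

theorem coreOf_normalized (K : Subgroup G) (t : ℕ) : K ≤ normalizer (coreOf K t : Set G) := by
  haveI := pCore_normal' (G := K) t
  intro k hk
  exact le_normalizer_map K.subtype ⟨⟨k, hk⟩, (normalizer_eq_top (Cfsg.pCore t K)).symm ▸ mem_top _, rfl⟩

theorem le_coreOf {K X : Subgroup G} {t : ℕ} (hX : X ≤ K) (hK : K ≤ normalizer (X : Set G))
    (ht : IsPGroup t X) : X ≤ coreOf K t := by
  haveI : (X.subgroupOf K).Normal := (normal_subgroupOf_iff_le_normalizer hX).2 hK
  have h : X.subgroupOf K ≤ Cfsg.pCore t K := CfsgLib.Coprime.le_pCore (ht.of_equiv (subgroupOfEquivOfLe hX).symm)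
  exact (map_subgroupOf_eq_of_le hX).symm.le.trans (map_mono h)

/-- The `q`-core of `K` is cyclic, and contains a line normal in `K` when it is nontrivial. -/
theorem TwoModules.cyclic_core (D : TwoModules p r q s U V K) :
    IsCyclic (coreOf K q) ∧ (coreOf K q ≠ ⊥ → ∃ b ∈ coreOf K q, orderOf b = q ∧
      K ≤ normalizer (zpowers b : Set G)) := by
  haveI := Fact.mk D.qp
  set Q := coreOf K q with hQdef
  have hQK : Q ≤ K := map_subtype_le _
  have hQ : IsPGroup q Q := (pCore_isPGroup q).map _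
  by_cases hQ0 : Q = ⊥
  · refine ⟨?_, fun h => absurd hQ0 h⟩
    rw [hQ0]
    exact isCyclic_of_subsingleton
  obtain ⟨B, t, ht, hBQ, hB0, hKB, hBc, hBt, htd, -⟩ :=
    exists_minimal_invariant (D.solvableK Q) hQ0 (coreOf_normalized K q)
  have htq : t = q := by
    obtain ⟨k, hk⟩ := hQ.exists_card_eq
    exact (Nat.prime_dvd_prime_iff_eq ht D.qp).1 (ht.dvd_of_dvd_pow (hk ▸ htd))
  subst htq
  rcases plane_or_zpowers ht hB0 hBc hBt with hP | ⟨b, hbo, rfl⟩
  · exact (D.no_plane (hBQ.trans hQK) hKB hP).elim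
  have hbQ : b ∈ Q := hBQ (mem_zpowers b)
  refine ⟨?_, fun _ => ⟨b, hbQ, hbo, hKB⟩⟩
  by_contra hnc
  have hq2 := D.odd_line (hQK hbQ) hbo hKB
  have hQn : K ≤ normalizer (Q : Set G) := coreOf_normalized K t
  -- central elements of order `q` lie in the line
  have hΩ : ∀ x ∈ Q, x ^ t = 1 → (∀ y ∈ Q, Commute x y) → x ∈ zpowers b := by
    let Ω : Subgroup G :=
    { carrier := {x | x ∈ Q ∧ x ^ t = 1 ∧ ∀ y ∈ Q, Commute x y}
      one_mem' := ⟨one_mem Q, one_pow t, fun y _ => Commute.one_left y⟩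
      mul_mem' := fun {a c} ha hc => ⟨mul_mem ha.1 hc.1, by
        rw [(ha.2.2 c hc.1).mul_pow, ha.2.1, hc.2.1, mul_one],
        fun y hy => (ha.2.2 y hy).mul_left (hc.2.2 y hy)⟩
      inv_mem' := fun {a} ha => ⟨inv_mem ha.1, by rw [inv_pow, ha.2.1, inv_one],
        fun y hy => (ha.2.2 y hy).inv_left⟩ }
    have hΩn : K ≤ normalizer (Ω : Set G) := by
      have hin : ∀ k ∈ K, ∀ x ∈ Ω, k * x * k⁻¹ ∈ Ω := fun k hk x hx =>
        ⟨(mem_normalizer_iff.1 (hQn hk) x).1 hx.1, by rw [conj_pow, hx.2.1]; group, fun y hy => by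
          have h := hx.2.2 _ ((mem_normalizer_iff.1 (hQn (inv_mem hk)) y).1 hy)
          calc k * x * k⁻¹ * y = k * (x * (k⁻¹ * y * k⁻¹⁻¹)) * k⁻¹ := by group
            _ = k * ((k⁻¹ * y * k⁻¹⁻¹) * x) * k⁻¹ := by rw [h.eq]
            _ = y * (k * x * k⁻¹) := by group⟩
      exact fun k hk => mem_normalizer_iff.2 fun x => ⟨hin k hk x, fun h => by
        simpa [mul_assoc] using hin k⁻¹ (inv_mem hk) _ h⟩
    intro x hx hxp hxc
    by_contra hxb
    have hxΩ : x ∈ Ω := ⟨hx, hxp, hxc⟩
    rcases plane_or_zpowers ht (B := Ω) (fun h => hxb (by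
        rw [mem_bot.1 (show x ∈ (⊥ : Subgroup G) from h ▸ hxΩ)]; exact one_mem _))
      (isMulCommutative_iff.2 fun a c => Subtype.ext (a.2.2.2 c c.2.1).eq) (fun a (ha : a ∈ Ω) => ha.2.1) with hP | ⟨c, hc, hΩc⟩
    · exact D.no_plane ((show Ω ≤ K from fun a ha => hQK ha.1)) hΩn hP
    · -- `b` is central in `Q`, so lies in `Ω`
      have hbc : ∀ y ∈ Q, Commute b y := by
        intro y hy
        by_contra hne
        have hyo : (orderOf y) ≠ 0 := (orderOf_pos y).ne'
        obtain ⟨k, hk⟩ := hQ ⟨y, hy⟩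
        have hyk : y ^ t ^ k = 1 := congrArg Subtype.val hk
        -- some power of `y` of order `q` modulo the centralizer moves `b`
        have key : ∀ i : ℕ, Commute b (y ^ t ^ i) → Commute b y := by
          intro i
          induction i with
          | zero => simp
          | succ i ih =>
            intro hi
            refine ih ?_
            by_contra hmove
            have hyn : y ^ t ^ i ∈ normalizer (zpowers b : Set G) := pow_mem (hKB (hQK hy)) _
            haveI : Fact t.Prime := ⟨ht⟩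
            -- the image in the automorphisms of the line has order dividing `t` and `t - 1`
            obtain ⟨j, hj⟩ := mem_powers_iff_mem_zpowers.2 ((mem_normalizer_iff.1 hyn b).1 (mem_zpowers b))
            replace hj : b ^ j = y ^ t ^ i * b * (y ^ t ^ i)⁻¹ := hj
            have hit : ∀ n : ℕ, (y ^ t ^ i) ^ n * b * ((y ^ t ^ i) ^ n)⁻¹ = b ^ (j ^ n) := by
              intro n
              induction n with
              | zero => simp
              | succ n ihn =>
                calc (y ^ t ^ i) ^ (n + 1) * b * ((y ^ t ^ i) ^ (n + 1))⁻¹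
                    = y ^ t ^ i * ((y ^ t ^ i) ^ n * b * ((y ^ t ^ i) ^ n)⁻¹) * (y ^ t ^ i)⁻¹ := by
                      rw [pow_succ']; group
                  _ = b ^ (j ^ (n + 1)) := by
                    rw [ihn, ← conj_pow, ← hj, ← pow_mul, pow_succ' j n]
            have h1 := hit t
            rw [← pow_mul, ← pow_succ, ← hi.eq, mul_inv_cancel_right] at h1
            have h2 : j ^ t ≡ 1 [MOD orderOf b] := pow_eq_pow_iff_modEq.1 (by rw [pow_one]; exact h1.symm)
            rw [hbo] at h2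
            have h3 : j ≡ 1 [MOD t] := by
              rw [← ZMod.natCast_eq_natCast_iff] at h2 ⊢
              push_cast at h2 ⊢
              rwa [ZMod.pow_card] at h2
            refine hmove ?_
            have h4 : b ^ j = b := by
              conv_rhs => rw [← pow_one b]
              exact pow_eq_pow_iff_modEq.2 (hbo ▸ h3)
            exact (mul_inv_eq_iff_eq_mul.1 (hj.symm.trans h4)).symm
        exact hne (key k (by rw [hyk]; exact Commute.one_right b))
      have hbΩ : b ∈ Ω := ⟨hbQ, hbo ▸ pow_orderOf_eq_one b, hbc⟩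
      refine hxb ?_
      have h1 : zpowers b = zpowers c := eq_of_le_of_card_ge (zpowers_le.2 (hΩc ▸ hbΩ))
        (by rw [Nat.card_zpowers, Nat.card_zpowers, hc, hbo])
      exact h1 ▸ hΩc ▸ hxΩ
  haveI : Fact t.Prime := ⟨ht⟩
  obtain ⟨hbc, z, hz, hzo, -, hmod, g, hg, hgz⟩ :=
    exists_central_mod hq2 hQ hnc hbQ hbo hΩ
  have hh := hmod g hg
  have hh' : g * z * g⁻¹ * z⁻¹ ≠ 1 := fun h => hgz (by
    rw [mul_inv_eq_one] at h
    exact mul_inv_eq_iff_eq_mul.1 h)
  refine D.no_config hbo hKB hzo (hbc z hz).symm (hbc g hg).symm hh hh' ?_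
  have hzc : Commute z (g * z * g⁻¹ * z⁻¹) := by
    obtain ⟨i, hi⟩ := hh
    exact hi ▸ ((hbc z hz).symm.zpow_right i)
  rw [hzc.eq, inv_mul_cancel_right]

/-- An element of order `q` outside the `q`-core moves the line of the `s`-core. -/
theorem TwoModules.dvd_pred (D : TwoModules p r q s U V K) : q ∣ s - 1 := by
  haveI := Fact.mk D.qp
  haveI := Fact.mk D.sp
  haveI := D.solvableK K
  obtain ⟨hQc, hQb⟩ := D.cyclic_core
  obtain ⟨hSc, hSb⟩ := D.swapQS.cyclic_core
  obtain ⟨Eq, hEqK, hEq⟩ := D.planeQ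
  obtain ⟨e, he, heQ⟩ : ∃ e ∈ Eq, e ∉ coreOf K q := by
    by_contra h
    push Not at h
    haveI := hQc
    exact hEq.not_cyclic (isCyclic_of_le (show Eq ≤ coreOf K q from h))
  have heK : e ∈ K := hEqK he
  have he1 : e ≠ 1 := fun h => heQ (h ▸ one_mem _)
  have heo := hEq.orderOf_eq he he1
  -- `e` centralizes the `q`-core
  have heQc : ∀ g ∈ coreOf K q, Commute e g := by
    by_contra hne
    push Not at hne
    obtain ⟨g₀, hg₀, hne₀⟩ := hne
    have hQ0 : coreOf K q ≠ ⊥ := fun h => hne₀ (by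
      rw [mem_bot.1 (show g₀ ∈ (⊥ : Subgroup G) from h ▸ hg₀)]; exact Commute.one_right e)
    obtain ⟨b, hb, hbo, hKb⟩ := hQb hQ0
    obtain ⟨k, hk⟩ := (pCore_isPGroup q).map K.subtype ⟨g₀, hg₀⟩
    obtain ⟨g, hg, hgne, hgq⟩ : ∃ g ∈ coreOf K q, ¬ Commute e g ∧ Commute e (g ^ q) := by
      by_contra h
      push Not at h
      have : ∀ i : ℕ, ¬ Commute e (g₀ ^ q ^ i) := by
        intro i
        induction i with
        | zero => simpa using hne₀
        | succ i ih => rw [pow_succ, pow_mul]; exact h _ (pow_mem hg₀ _) ih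
      exact this k (by
        rw [show g₀ ^ q ^ k = 1 from congrArg Subtype.val hk]; exact Commute.one_right e)
    have heb : Commute e b := by
      by_contra hne
      have h := dvd_pred_of_move (heo ▸ D.qp) (hbo ▸ D.qp) (hKb heK) hne
      rw [heo, hbo] at h
      have := Nat.le_of_dvd (by have := D.qp.two_le; omega) h
      have := D.qp.two_le
      omega
    haveI := hQc
    haveI : IsMulCommutative (coreOf K q) := inferInstance
    have hcomm : ∀ x ∈ coreOf K q, ∀ y ∈ coreOf K q, Commute x y := fun x hx y hy =>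
      congrArg Subtype.val (mul_comm' (⟨x, hx⟩ : coreOf K q) ⟨y, hy⟩)
    set h := e * g⁻¹ * e⁻¹ * g with hdef
    have heg : e * g⁻¹ * e⁻¹ ∈ coreOf K q :=
      (mem_normalizer_iff.1 (coreOf_normalized K q heK) _).1 (inv_mem hg)
    have hhQ : h ∈ coreOf K q := mul_mem heg hg
    have hhq : h ^ q = 1 := by
      have hq' : e * (g ^ q)⁻¹ * e⁻¹ = (g ^ q)⁻¹ := by
        rw [hgq.inv_right.eq, mul_inv_cancel_right]
      rw [hdef, (hcomm _ heg g hg).mul_pow, conj_pow, inv_pow, hq', inv_mul_cancel]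
    have hh1 : h ≠ 1 := fun h0 => hgne (by
      have h2 : e * g⁻¹ * e⁻¹ = g⁻¹ := eq_inv_of_mul_eq_one_left h0
      exact (Commute.inv_right_iff).1 (mul_inv_eq_iff_eq_mul.1 h2))
    have hhb : h ∈ zpowers b := mem_zpowers_of_cyclic D.qp hQc hb hbo hhQ hhq
    refine D.no_config hbo hKb heo heb (hcomm g hg b hb) hhb hh1 ?_
    have hgh : Commute g h := hcomm g hg h hhQ
    calc g * e * g⁻¹ = g * (e * g⁻¹ * e⁻¹ * g) * g⁻¹ * e := by group
      _ = h * e := by rw [← hdef, hgh.eq, mul_inv_cancel_right]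
      _ = e * h := by
        obtain ⟨i, hi⟩ := hhb
        exact hi ▸ ((heb.zpow_right i).eq).symm
  by_cases hS : ∀ g ∈ coreOf K s, Commute e g
  · -- then `e` centralizes the Fitting subgroup
    exfalso
    let e' : K := ⟨e, heK⟩
    have hcen : e' ∈ centralizer (Cfsg.fittingSubgroup K : Set K) := by
      rw [mem_centralizer_iff]
      intro x hx
      have hle : Cfsg.fittingSubgroup K ≤ centralizer ({e'} : Set K) := by
        rw [fitting_eq_iSup_pCore]
        refine iSup_le fun t => fun y hy => mem_centralizer_singleton_iff.2 ?_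
        haveI : Fact (t : ℕ).Prime := ⟨t.2⟩
        by_cases hy1 : y = 1
        · simp [hy1]
        have htd : (t : ℕ) ∣ Nat.card K := by
          obtain ⟨k, hk⟩ := (pCore_isPGroup (t : ℕ) (G := K)).exists_card_eq
          rcases k with _ | k
          · exact absurd (mem_bot.1 ((Subgroup.card_eq_one.1 (hk.trans (pow_zero _))) ▸ hy)) hy1
          · exact ((hk ▸ dvd_pow_self _ (Nat.succ_ne_zero k) : (t : ℕ) ∣ _)).trans
              (card_subgroup_dvd_card _)
        refine Subtype.ext ?_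
        rcases D.Kpi t t.2 htd with h | h
        · exact ((heQc y (mem_map_of_mem _ (h ▸ hy))).eq).symm
        · exact ((hS y (mem_map_of_mem _ (h ▸ hy))).eq).symm
      exact mem_centralizer_singleton_iff.1 (hle hx)
    set C := centralizer (Cfsg.fittingSubgroup K : Set K) with hC
    haveI := fitting_normal (G := K)
    haveI hCn : C.Normal := Subgroup.normal_centralizer
    have hCc : ∀ x ∈ C, ∀ y ∈ C, Commute x y := fun x hx y hy =>
      (mem_centralizer_iff.1 hy x (centralizer_fitting_le hx))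
    let Ω : Subgroup K :=
    { carrier := {x | x ∈ C ∧ x ^ q = 1}
      one_mem' := ⟨one_mem C, one_pow q⟩
      mul_mem' := fun {a c} ha hc => ⟨mul_mem ha.1 hc.1, by
        rw [(hCc a ha.1 c hc.1).mul_pow, ha.2, hc.2, mul_one]⟩
      inv_mem' := fun {a} ha => ⟨inv_mem ha.1, by rw [inv_pow, ha.2, inv_one]⟩ }
    haveI : Ω.Normal := ⟨fun x hx g => ⟨hCn.conj_mem x hx.1 g, by rw [conj_pow, hx.2]; group⟩⟩
    have hΩ : Ω ≤ Cfsg.pCore q K := CfsgLib.Coprime.le_pCore fun x => ⟨1, Subtype.ext (by simpa using x.2.2)⟩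
    exact heQ ⟨e', hΩ ⟨hcen, Subtype.ext (by simpa using hEq.pow e he)⟩, rfl⟩
  · push Not at hS
    obtain ⟨g, hg, hge⟩ := hS
    have hS0 : coreOf K s ≠ ⊥ := fun h => hge (by rw [mem_bot.1 (show g ∈ (⊥ : Subgroup G) from h ▸ hg)]; exact Commute.one_right e)
    obtain ⟨b, hb, hbo, hKb⟩ := hSb hS0
    haveI := hSc
    by_cases heb : Commute e b
    · refine absurd ?_ hge
      obtain ⟨k, hk⟩ := ((pCore_isPGroup s).map K.subtype : IsPGroup s (coreOf K s)).exists_card_eq
      refine commute_of_fix_prime_order (V := coreOf K s) (coreOf_normalized K s heK)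
        (by rw [heo, hk]; exact ((Nat.coprime_primes D.qp D.sp).2 D.qs).pow_right k) (fun v hv hvp => ?_) g hg
      have hvs : orderOf v = s := (Nat.prime_dvd_prime_iff_eq hvp D.sp).1
        (hvp.dvd_of_dvd_pow (n := k) (hk ▸ orderOf_dvd_natCard _ hv))
      obtain ⟨i, rfl⟩ := mem_zpowers_of_cyclic D.sp hSc hb hbo hv (hvs ▸ pow_orderOf_eq_one v)
      exact heb.zpow_right i
    · have h := dvd_pred_of_move (heo ▸ D.qp) (hbo ▸ D.sp) (hKb heK) heb
      rwa [heo, hbo] at h

/-- The configuration does not occur. -/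
theorem TwoModules.false (D : TwoModules p r q s U V K) : False := by
  have h1 := Nat.le_of_dvd (by have := D.sp.two_le; omega) D.dvd_pred
  have h2 := Nat.le_of_dvd (by have := D.qp.two_le; omega) D.swapQS.dvd_pred
  have := D.qp.two_le
  have := D.sp.two_le
  omega

end CfsgLib.PGroup.FourPrimes
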