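import Cfsg.Agent.Lib.PGroup.FourPrimes.OneModule
import Cfsg.Agent.Lib.PGroup.FourPrimes.TwoModulesFinal
import Cfsg.Agent.Lib.PGroup.FourPrimes.Config

/-!
# One module: the complement normalizes no plane
-/

set_option autoImplicit false
set_option linter.style.haveILetI false
set_option linter.unusedSectionVars false

namespace CfsgLib.PGroup.FourPrimes

open Subgroup CfsgLib.Coprime

universe u

variable {G : Type u} [Group G] [Finite G] {r p q s : ℕ} {R H : Subgroup G}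

/-- `H` normalizes no plane inside it. -/
def NoPlane (H : Subgroup G) : Prop :=
  ∀ (t : ℕ) (E : Subgroup G), E ≤ H → Plane t E → ¬ H ≤ normalizer (E : Set G)

theorem OneModule.not_dvd_R (D : OneModule r p q s R H) {t : ℕ} (ht : t.Prime) (htr : t ≠ r) :
    ¬ t ∣ Nat.card R := by
  haveI := Fact.mk D.rp
  obtain ⟨k, hk⟩ := D.Rgrp.exists_card_eq
  rw [hk]
  exact fun h => htr ((Nat.prime_dvd_prime_iff_eq ht D.rp).1 (ht.dvd_of_dvd_pow h))

/-- A `{q, s}`-subgroup with planes, normalizing a line of order `p`, centralizes parts of both. -/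
theorem OneModule.exists_K (D : OneModule r p q s R H) :
    ∃ K ≤ H, IsPiNum {q, s} (Nat.card K) ∧ (∃ E ≤ K, Plane q E) ∧ ∃ E ≤ K, Plane s E := by
  obtain ⟨K, hK⟩ := exists_hallIn ({q, s} : Set ℕ) (D.solvableSub H)
  obtain ⟨Eq, hEq1, hEq⟩ := D.planeQ
  obtain ⟨Es, hEs1, hEs⟩ := D.planeS
  exact ⟨K, hK.1, hK.2.1, hEq.exists_in_hall hK (D.solvableSub H) (by simp) hEq1,
    hEs.exists_in_hall hK (D.solvableSub H) (by simp) hEs1⟩

/-- A normal line of `H` has no fixed points. -/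
theorem OneModule.line_fpf (D : OneModule r p q s R H) {a : G} (hao : orderOf a = p)
    (hHa : H ≤ normalizer (zpowers a : Set G)) {v : G} (hv : v ∈ R) (hc : Commute a v) : v = 1 := by
  by_contra hv1
  haveI := D.solvable
  obtain ⟨Eq, hEq1, hEq⟩ := D.planeQ
  obtain ⟨Es, hEs1, hEs⟩ := D.planeS
  obtain ⟨f, hf, hfo, hfa⟩ := hEq.line (hao ▸ D.pp) (hao ▸ D.pq) (hEq1.trans hHa)
  obtain ⟨f', hf', hf'o, hf'a⟩ := hEs.line (hao ▸ D.pp) (hao ▸ D.ps) (hEs1.trans hHa)
  obtain ⟨w, -, -, hwo, hwv⟩ := D.order_mem hv hv1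
  refine D.noTriple.three (X := centralizer ({a} : Set G)) (hao ▸ D.pp)
    (fun x hx => (mem_centralizer_singleton_iff.1 hx).symm) D.rp D.qp D.sp D.rq D.rs D.qs
    (hao ▸ D.rp'.symm) (hao ▸ D.pq) (hao ▸ D.ps) ?_ ?_ ?_
  · rw [← hwo]
    exact orderOf_dvd_natCard _ (mem_centralizer_singleton_iff.2 (commute_mem_zpowers hwv hc).symm.eq)
  · rw [← hfo]
    exact orderOf_dvd_natCard _ (mem_centralizer_singleton_iff.2 hfa.eq)
  · rw [← hf'o]
    exact orderOf_dvd_natCard _ (mem_centralizer_singleton_iff.2 hf'a.eq)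

/-- A normal line of `H` has odd order. -/
theorem OneModule.line_odd (D : OneModule r p q s R H) {a : G} (hao : orderOf a = p)
    (hHa : H ≤ normalizer (zpowers a : Set G)) : p ≠ 2 := by
  intro hp2
  obtain ⟨K, hKH, hK, ⟨Eq, hqK, hEq⟩, ⟨Es, hsK, hEs⟩⟩ := D.exists_K
  obtain ⟨c, hc, d, hd, hco, hdo, hcd⟩ := exists_pair (D.solvableSub K) hK D.qs hEq hEs hqK hsK
  have hcent : ∀ x ∈ K, Commute a x := by
    intro x hx
    have hm := (mem_normalizer_iff.1 (hHa (hKH hx)) a).1 (mem_zpowers a)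
    obtain ⟨i, hi⟩ := mem_zpowers_iff.1 hm
    have ha2 : orderOf a = 2 := hao.trans hp2
    rcases Int.even_or_odd i with ⟨j, rfl⟩ | ⟨j, rfl⟩
    · exfalso
      rw [← two_mul, zpow_mul, show a ^ (2 : ℤ) = 1 by
        rw [show (2 : ℤ) = ((2 : ℕ) : ℤ) from rfl, zpow_natCast, ← ha2, pow_orderOf_eq_one],
        one_zpow] at hi
      rw [conj_eq_one_iff.1 hi.symm, orderOf_one] at ha2
      exact absurd ha2 (by norm_num)
    · rw [zpow_add, zpow_mul, show a ^ (2 : ℤ) = 1 by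
        rw [show (2 : ℤ) = ((2 : ℕ) : ℤ) from rfl, zpow_natCast, ← ha2, pow_orderOf_eq_one],
        one_zpow, one_mul, zpow_one] at hi
      exact (mul_inv_eq_iff_eq_mul.1 hi.symm).symm
  exact D.noTriple a c d (hao ▸ D.pp) (hco ▸ D.qp) (hdo ▸ D.sp) (by rw [hao, hco]; exact D.pq)
    (by rw [hao, hdo]; exact D.ps) (by rw [hco, hdo]; exact D.qs) (hcent c hc) (hcent d hd) hcd

/-- The core for `p` contains a normal line if it is nontrivial. -/
theorem OneModule.core_line (D : OneModule r p q s R H) (hno : NoPlane H)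
    (h0 : coreOf H p ≠ ⊥) : ∃ a ∈ coreOf H p, orderOf a = p ∧ H ≤ normalizer (zpowers a : Set G) := by
  haveI := Fact.mk D.pp
  obtain ⟨B, t, ht, hBQ, hB0, hHB, hBc, hBt, htd, -⟩ :=
    exists_minimal_invariant (D.solvableSub _) h0 (coreOf_normalized H p)
  obtain ⟨k, hk⟩ := ((pCore_isPGroup p).map H.subtype : IsPGroup p (coreOf H p)).exists_card_eq
  have htp : t = p := (Nat.prime_dvd_prime_iff_eq ht D.pp).1 (ht.dvd_of_dvd_pow (hk ▸ htd))
  rcases plane_or_zpowers ht hB0 hBc hBt with hP | ⟨b, hb, rfl⟩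
  · exact absurd hHB (hno t B (hBQ.trans (map_subtype_le _)) hP)
  · exact ⟨b, hBQ (mem_zpowers b), hb.trans htp, hHB⟩

/-- The step with the minimal normal subgroup of the centralizer of the line. -/
theorem OneModule.core_step (D : OneModule r p q s R H) {a : G} (haH : a ∈ H) (hao : orderOf a = p)
    (hHa : H ≤ normalizer (zpowers a : Set G)) {P : Subgroup G} (hPH : P ≤ H)
    (hHP : H ≤ normalizer (P : Set G)) (hPpow : ∀ x ∈ P, x ^ p = 1)
    (haP : a ∈ P) (hPa : ∀ x ∈ P, Commute a x) {z : G} (hz : z ∈ P) (hza : z ∉ zpowers a)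
    (hfix : ∀ x ∈ P, x ∉ zpowers a → ∃ v ∈ R, v ≠ 1 ∧ Commute x v)
    {Es B : Subgroup G} (hEsH : Es ≤ H) (hEs : Plane s Es) (hBH : B ≤ H) (hB0 : B ≠ ⊥)
    (hBa : ∀ x ∈ B, Commute a x) (hBq : ∀ x ∈ B, x ^ q = 1) {y : G} (hy : y ∈ H) (hyo : orderOf y = s)
    (hya : Commute a y) (hyB : y ∈ normalizer (B : Set G)) : False := by
  haveI := Fact.mk D.rp
  haveI := Fact.mk D.qp
  haveI := Fact.mk D.pp
  haveI := D.solvable
  have hPp : IsPGroup p P := fun x => ⟨1, Subtype.ext (by simpa using hPpow x x.2)⟩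
  obtain ⟨b, hb, hb1⟩ := B.bot_or_exists_ne_one.resolve_left hB0
  have hbo : orderOf b = q := orderOf_eq_prime (hBq b hb) hb1
  have hBord : ∀ x ∈ B, x ≠ 1 → orderOf x = q := fun x hx h => orderOf_eq_prime (hBq x hx) h
  have hfree : ∀ x ∈ B, Commute y x → x = 1 := fun x hx hc => by_contra fun h1 =>
    D.noTriple a x y (hao ▸ D.pp) (hBord x hx h1 ▸ D.qp) (hyo ▸ D.sp)
      (by rw [hao, hBord x hx h1]; exact D.pq) (by rw [hao, hyo]; exact D.ps)
      (by rw [hBord x hx h1, hyo]; exact D.qs) (hBa x hx) hya hc.symm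
  have hfpf : ∀ i : ℕ, y ^ i ≠ 1 → ∀ x ∈ B, Commute (y ^ i) x → x = 1 := fun i hi x hx hc =>
    hfree x hx (eq_one_of_commute_pow D.sp hyo hi hc)
  obtain ⟨v, hv, hv1, hyv⟩ := exists_fixed_of_semiregular (r := r) (A := B) (R := R) (b := y) D.Rgrp
    (not_dvd_of_pow D.qp D.rp D.rq hBq)
    (fun h => D.rs ((Nat.prime_dvd_prime_iff_eq D.rp D.sp).1 (hyo ▸ h)))
    (D.normalizesR B) (D.normalizesR ⊤ (mem_top y)) hyB hfpf
    (fun h => hb1 (D.eq_one_of_fixes (hBH hb) fun v hv => (mem_centralizer_iff.1 (h hb) v hv).symm))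
  by_cases htriv : B ≤ centralizer (P : Set G)
  · -- some line of `Es` fixes an element of `P` outside the line
    have hex : ∃ e ∈ Es, orderOf e = s ∧ ∃ x ∈ P, x ∉ zpowers a ∧ Commute e x := by
      by_contra h
      push Not at h
      exact hza (hEs.le_of_fixed (hEsH.trans hHP) (not_dvd_of_pow D.pp D.sp D.ps.symm hPpow)
        (fun e he heo x hx hc => by_contra fun hxa => h e he heo x hx hxa hc) hz)
    obtain ⟨e, he, heo, x, hx, hxa, hex⟩ := hex
    obtain ⟨v', hv', hv'1, hxv⟩ := hfix x hx hxa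
    have hxo : orderOf x = p := orderOf_eq_prime (hPpow x hx) fun h => hxa (h ▸ one_mem _)
    obtain ⟨w, -, -, hwo, hwv⟩ := D.order_mem hv' hv'1
    refine D.noTriple.three (X := centralizer ({x} : Set G)) (hxo ▸ D.pp)
      (fun g hg => (mem_centralizer_singleton_iff.1 hg).symm) D.rp D.qp D.sp D.rq D.rs D.qs
      (hxo ▸ D.rp'.symm) (hxo ▸ D.pq) (hxo ▸ D.ps) ?_ ?_ ?_
    · rw [← hwo]
      exact orderOf_dvd_natCard _ (mem_centralizer_singleton_iff.2 (commute_mem_zpowers hwv hxv).symm.eq)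
    · rw [← hbo]
      exact orderOf_dvd_natCard _ (mem_centralizer_singleton_iff.2 (mem_centralizer_iff.1 (htriv hb) x hx).symm)
    · rw [← heo]
      exact orderOf_dvd_natCard _ (mem_centralizer_singleton_iff.2 hex.eq)
  · -- `y` fixes an element of `P` outside the line
    haveI hnorm : ((zpowers a).subgroupOf H).Normal :=
      (normal_subgroupOf_iff_le_normalizer (zpowers_le.2 haH)).2 hHa
    set π := QuotientGroup.mk' ((zpowers a).subgroupOf H) with hπ
    have hπ1 : ∀ x : H, π x = 1 ↔ (x : G) ∈ zpowers a := fun x =>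
      (QuotientGroup.eq_one_iff x).trans mem_subgroupOf
    have hBdis : ∀ x ∈ B, x ∈ zpowers a → x = 1 := fun x hx hxa =>
      Subgroup.disjoint_def.1 (disjoint_of_coprime_natCard (H := B) (K := zpowers a) (by
        rw [Nat.card_zpowers, hao]
        exact ((Nat.Prime.coprime_iff_not_dvd D.pp).2 (not_dvd_of_pow D.qp D.pp D.pq hBq)).symm)) hx hxa
    obtain ⟨x, hx, hxa, hyx⟩ : ∃ x ∈ P, x ∉ zpowers a ∧ Commute y x := by
      obtain ⟨xbar, hxb, hxb1, hcm⟩ := exists_fixed_of_semiregular (r := p)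
        (A := (B.subgroupOf H).map π) (R := (P.subgroupOf H).map π) (b := π ⟨y, hy⟩)
        ((hPp.of_equiv (subgroupOfEquivOfLe hPH).symm).map π)
        (fun h => not_dvd_of_pow D.qp D.pp D.pq hBq (h.trans ((card_map_dvd _ _).trans (by
          rw [Nat.card_congr (subgroupOfEquivOfLe hBH).toEquiv]))))
        (fun h => D.ps ((Nat.prime_dvd_prime_iff_eq D.pp D.sp).1
          (hyo ▸ (h.trans (orderOf_map_dvd π _)).trans (Subgroup.orderOf_mk y hy).dvd)))
        ((map_mono le_top).trans (le_trans (le_of_eq (by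
          rw [normalizer_eq_top_iff.2 ((normal_subgroupOf_iff_le_normalizer hPH).2 hHP)]))
          (le_normalizer_map (H := P.subgroupOf H) π)))
        (le_normalizer_map π ⟨⟨y, hy⟩, (normalizer_eq_top_iff.2
          ((normal_subgroupOf_iff_le_normalizer hPH).2 hHP)).symm ▸ mem_top _, rfl⟩)
        (le_normalizer_map π ⟨⟨y, hy⟩, mem_normalizer_iff.2 (fun x => by
          simp only [mem_subgroupOf, Subgroup.coe_mul, InvMemClass.coe_inv]
          exact mem_normalizer_iff.1 hyB x), rfl⟩)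
        (by
          rintro i hi _ ⟨c, hc, rfl⟩ hcm
          have hyi : y ^ i ≠ 1 := fun h => hi (by
            rw [← map_pow, show (⟨y, hy⟩ : H) ^ i = 1 from Subtype.ext (by simpa using h), map_one])
          have h1 : π ((⟨y, hy⟩ : H) ^ i * c * ((⟨y, hy⟩ : H) ^ i)⁻¹ * c⁻¹) = 1 := by
            rw [map_mul, map_mul, map_mul, map_inv, map_inv, map_pow, hcm.eq]
            group
          rw [hπ1] at h1
          simp only [Subgroup.coe_mul, InvMemClass.coe_inv, SubgroupClass.coe_pow] at h1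
          have h2 := hBdis _ (mul_mem ((mem_normalizer_iff.1 (pow_mem hyB i) _).1 hc) (inv_mem hc)) h1
          rw [show c = 1 from Subtype.ext (hfpf i hyi c hc
            (mul_inv_eq_iff_eq_mul.1 (mul_inv_eq_one.1 h2))), map_one])
        (fun h => htriv fun c hc => mem_centralizer_iff.2 fun x hx => by
          have h1 : π ⟨c, hBH hc⟩ * π ⟨x, hPH hx⟩ = π ⟨x, hPH hx⟩ * π ⟨c, hBH hc⟩ :=
            (mem_centralizer_iff.1 (h (mem_map_of_mem π (x := (⟨c, hBH hc⟩ : H)) hc)) _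
              (mem_map_of_mem π (x := (⟨x, hPH hx⟩ : H)) hx)).symm
          have h2 : c * x * c⁻¹ * x⁻¹ ∈ zpowers a := by
            have : π (⟨c, hBH hc⟩ * ⟨x, hPH hx⟩ * ⟨c, hBH hc⟩⁻¹ * ⟨x, hPH hx⟩⁻¹) = 1 := by
              rw [map_mul, map_mul, map_mul, map_inv, map_inv, h1]
              group
            exact (hπ1 _).1 this
          have hu : c * (c * x * c⁻¹ * x⁻¹) * c⁻¹ = c * x * c⁻¹ * x⁻¹ := by
            obtain ⟨j, hj⟩ := h2
            rw [← hj, show c * a ^ j = a ^ j * c from ((hBa c hc).symm.zpow_right j).eq,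
              mul_inv_cancel_right]
          have h3 := eq_one_of_conj_eq_mul (a := c) (x := x) (u := c * x * c⁻¹ * x⁻¹) (by group) hu (by
            refine Nat.Coprime.coprime_dvd_right (orderOf_dvd_natCard _ h2) ?_
            rw [Nat.card_zpowers, hao]
            exact (((D.pp.coprime_iff_not_dvd).2 (fun h' => not_dvd_of_pow D.qp D.pp D.pq hBq
              (h'.trans (orderOf_dvd_natCard _ hc))))).symm)
          exact (mul_inv_eq_iff_eq_mul.1 (mul_inv_eq_one.1 h3)).symm)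
      obtain ⟨k, hk, rfl⟩ := hxb
      have hfix : ∀ c ∈ zpowers y, c * (k : G) * c⁻¹ * (k : G)⁻¹ ∈ zpowers a := by
        rintro c ⟨j, rfl⟩
        have h1 : π ((⟨y, hy⟩ : H) ^ j * k * ((⟨y, hy⟩ : H) ^ j)⁻¹ * k⁻¹) = 1 := by
          rw [map_mul, map_mul, map_mul, map_inv, map_inv, map_zpow, (hcm.zpow_left j).eq]
          group
        simpa using (hπ1 _).1 h1
      obtain ⟨n, hn, hkn⟩ := exists_fixed_in_coset (A := zpowers y) (N := zpowers a)
        (zpowers_le.2 (hHa hy)) (by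
          rw [Nat.card_zpowers, Nat.card_zpowers, hyo, hao]
          exact (Nat.coprime_primes D.sp D.pp).2 D.ps.symm)
        (Or.inl (isSolvable_of_isMulCommutative inferInstance)) (hHa k.2) hfix
      refine ⟨(k : G) * n, mul_mem hk ((zpowers_le.2 haP) hn), fun h => hxb1 ((hπ1 k).2 ?_),
        mem_centralizer_iff.1 hkn y (mem_zpowers y)⟩
      simpa using mul_mem h (inv_mem hn)
    have hP2 := plane_of_pair D.pp (hao ▸ pow_orderOf_eq_one a) (hPpow x hx)
      (fun h => by rw [h, orderOf_one] at hao; exact D.pp.ne_one hao.symm) (hPa x hx) hxa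
    have hcen : closure ({a, x} : Set G) ≤ centralizer (zpowers y : Set G) := (closure_le _).2 (by
      rintro w (rfl | rfl) <;> refine mem_centralizer_iff.2 fun c hc => ?_
      · exact (commute_mem_zpowers hc hya).symm.eq
      · exact (commute_mem_zpowers hc hyx.symm).symm.eq)
    haveI := D.Rn
    obtain ⟨e, he, heo, v', hv', hv'1, hev⟩ := hP2.exists_fixed (R := R ⊓ centralizer (zpowers y : Set G))
      (inf_le_normalizer (D.normalizesR _) (hcen.trans le_normalizer))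
      (fun h => D.not_dvd_R D.pp D.rp'.symm (h.trans (card_dvd_of_le inf_le_left)))
      (fun h => hv1 (mem_bot.1 (h ▸ (show v ∈ R ⊓ centralizer (zpowers y : Set G) from
        ⟨hv, mem_centralizer_iff.2 fun c hc => (commute_mem_zpowers hc hyv.symm).symm.eq⟩))))
    exact D.not_pair (x := e) (y := y) (heo ▸ D.pp) (hyo ▸ D.sp) (heo ▸ D.rp'.symm) (hyo ▸ D.rs.symm)
      (by rw [heo, hyo]; exact D.ps) hv'.1 hv'1
      (mem_centralizer_iff.1 (hcen he) y (mem_zpowers y)).symm hev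
      (mem_centralizer_iff.1 hv'.2 y (mem_zpowers y))

/-- The core for `p` is cyclic. -/
theorem OneModule.core_cyclic (D : OneModule r p q s R H) (hno : NoPlane H) :
    IsCyclic (coreOf H p) := by
  by_contra hnc
  haveI := Fact.mk D.pp
  have h0 : coreOf H p ≠ ⊥ := fun h => hnc (by rw [h]; exact isCyclic_of_subsingleton)
  obtain ⟨a, haQ, hao, hHa⟩ := D.core_line hno h0
  set Q := coreOf H p with hQdef
  have hQH : Q ≤ H := map_subtype_le _
  have hQn : H ≤ normalizer (Q : Set G) := coreOf_normalized H p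
  have hQ : IsPGroup p Q := (pCore_isPGroup p).map _
  have hp2 := D.line_odd hao hHa
  have hac := line_central hQ haQ hao (hQH.trans hHa)
  have hΩ : ∀ x ∈ Q, x ^ p = 1 → (∀ y ∈ Q, Commute x y) → x ∈ zpowers a := by
    let Ω : Subgroup G :=
    { carrier := {x | x ∈ Q ∧ x ^ p = 1 ∧ ∀ y ∈ Q, Commute x y}
      one_mem' := ⟨one_mem Q, one_pow p, fun y _ => Commute.one_left y⟩
      mul_mem' := fun {b c} hb hc => ⟨mul_mem hb.1 hc.1, by
        rw [(hb.2.2 c hc.1).mul_pow, hb.2.1, hc.2.1, mul_one],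
        fun y hy => (hb.2.2 y hy).mul_left (hc.2.2 y hy)⟩
      inv_mem' := fun {b} hb => ⟨inv_mem hb.1, by rw [inv_pow, hb.2.1, inv_one],
        fun y hy => (hb.2.2 y hy).inv_left⟩ }
    have hΩn : H ≤ normalizer (Ω : Set G) := by
      have hin : ∀ k ∈ H, ∀ x ∈ Ω, k * x * k⁻¹ ∈ Ω := fun k hk x hx =>
        ⟨(mem_normalizer_iff.1 (hQn hk) x).1 hx.1, by rw [conj_pow, hx.2.1]; group, fun y hy => by
          have h := hx.2.2 _ ((mem_normalizer_iff.1 (hQn (inv_mem hk)) y).1 hy)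
          calc k * x * k⁻¹ * y = k * (x * (k⁻¹ * y * k⁻¹⁻¹)) * k⁻¹ := by group
            _ = k * ((k⁻¹ * y * k⁻¹⁻¹) * x) * k⁻¹ := by rw [h.eq]
            _ = y * (k * x * k⁻¹) := by group⟩
      exact fun k hk => mem_normalizer_iff.2 fun x => ⟨hin k hk x, fun h => by
        simpa [mul_assoc] using hin k⁻¹ (inv_mem hk) _ h⟩
    intro x hx hxp hxc
    have haΩ : a ∈ Ω := ⟨haQ, hao ▸ pow_orderOf_eq_one a, hac⟩
    rcases plane_or_zpowers D.pp (B := Ω) (fun h => by
        have h1 : a = 1 := mem_bot.1 (show a ∈ (⊥ : Subgroup G) from h ▸ haΩ)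
        rw [h1, orderOf_one] at hao
        exact D.pp.ne_one hao.symm)
      (isMulCommutative_iff.2 fun b c => Subtype.ext (b.2.2.2 c c.2.1).eq)
      (fun b (hb : b ∈ Ω) => hb.2.1) with hP | ⟨c, hc, hΩc⟩
    · exact absurd hΩn (hno p Ω (fun b hb => hQH hb.1) hP)
    · have h1 : zpowers a = zpowers c := eq_of_le_of_card_ge (zpowers_le.2 (hΩc ▸ haΩ))
        (by rw [Nat.card_zpowers, Nat.card_zpowers, hc, hao])
      exact h1 ▸ hΩc ▸ (show x ∈ Ω from ⟨hx, hxp, hxc⟩)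
  obtain ⟨-, z, hz, hzo, hza, hzmod, -⟩ := exists_central_mod hp2 hQ hnc haQ hao hΩ
  have hacl : ∀ c ∈ zpowers a, ∀ w ∈ Q, Commute c w := fun c hc w hw =>
    (commute_mem_zpowers hc (hac w hw).symm).symm
  let P : Subgroup G :=
  { carrier := {x | x ∈ Q ∧ x ^ p = 1 ∧ ∀ g ∈ Q, g * x * g⁻¹ * x⁻¹ ∈ zpowers a}
    one_mem' := ⟨one_mem Q, one_pow p, fun g _ => by simp⟩
    mul_mem' := by
      rintro u w ⟨hu, hup, hum⟩ ⟨hw, hwp, hwm⟩
      refine ⟨mul_mem hu hw, ?_, fun g hg => ?_⟩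
      · have hcu := hum w hw
        have hc : Commute (w * u * w⁻¹ * u⁻¹) u := hacl _ hcu u hu
        refine mul_pow_prime_eq_one D.pp hp2 (c := w * u * w⁻¹ * u⁻¹) ?_ hc (hacl _ hcu w hw) hup hwp ?_
        · calc w * u = (w * u * w⁻¹ * u⁻¹) * (u * w) := by group
            _ = u * w * (w * u * w⁻¹ * u⁻¹) := (hc.mul_right (hacl _ hcu w hw)).eq
        · obtain ⟨j, hj⟩ := hcu
          rw [← hj, ← zpow_natCast, ← zpow_mul, mul_comm, zpow_mul, zpow_natCast, ← hao,
            pow_orderOf_eq_one, one_zpow]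
      · have h1 := hum g hg
        have h2 := hwm g hg
        have : g * (u * w) * g⁻¹ * (u * w)⁻¹ =
            (g * u * g⁻¹ * u⁻¹) * (u * (g * w * g⁻¹ * w⁻¹) * u⁻¹) := by group
        rw [this, ← (hacl _ h2 u hu).eq, mul_inv_cancel_right]
        exact mul_mem h1 h2
    inv_mem' := by
      rintro u ⟨hu, hup, hum⟩
      refine ⟨inv_mem hu, by rw [inv_pow, hup, inv_one], fun g hg => ?_⟩
      have h1 := hum g hg
      have : g * u⁻¹ * g⁻¹ * u⁻¹⁻¹ = u⁻¹ * (g * u * g⁻¹ * u⁻¹)⁻¹ * u := by group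
      rw [this, ← (hacl _ (inv_mem h1) u⁻¹ (inv_mem hu)).eq, inv_mul_cancel_right]
      exact inv_mem h1 }
  have hPn : H ≤ normalizer (P : Set G) := by
    have hin : ∀ k ∈ H, ∀ x ∈ P, k * x * k⁻¹ ∈ P := fun k hk x hx =>
      ⟨(mem_normalizer_iff.1 (hQn hk) x).1 hx.1, by rw [conj_pow, hx.2.1]; group, fun g hg => by
        have h := (mem_normalizer_iff.1 (hHa hk) _).1
          (hx.2.2 _ ((mem_normalizer_iff.1 (hQn (inv_mem hk)) g).1 hg))
        have e : g * (k * x * k⁻¹) * g⁻¹ * (k * x * k⁻¹)⁻¹ =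
            k * ((k⁻¹ * g * k⁻¹⁻¹) * x * (k⁻¹ * g * k⁻¹⁻¹)⁻¹ * x⁻¹) * k⁻¹ := by group
        rw [e]
        exact h⟩
    exact fun k hk => mem_normalizer_iff.2 fun x => ⟨hin k hk x, fun h => by
      simpa [mul_assoc] using hin k⁻¹ (inv_mem hk) _ h⟩
  have haP : a ∈ P := ⟨haQ, hao ▸ pow_orderOf_eq_one a, fun g hg => by
    rw [← (hac g hg).eq, mul_inv_cancel_right, mul_inv_cancel]; exact one_mem _⟩
  have hfix : ∀ x ∈ P, x ∉ zpowers a → ∃ v ∈ R, v ≠ 1 ∧ Commute x v := by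
    intro x hx hxa
    obtain ⟨g, hg, hgx⟩ : ∃ g ∈ Q, ¬ Commute g x := by
      by_contra h
      push Not at h
      exact hxa (hΩ x hx.1 hx.2.1 fun y hy => (h y hy).symm)
    have hm := hx.2.2 g hg
    refine exists_fixed_of_config (g := g) (h := g * x * g⁻¹ * x⁻¹) D.Rn
      (D.not_dvd_R D.pp D.rp'.symm) D.R0 hao
      (orderOf_eq_prime hx.2.1 fun h => hxa (h ▸ one_mem _)) (hac x hx.1).symm (hac g hg).symm hm
      (fun h => hgx (mul_inv_eq_iff_eq_mul.1 (mul_inv_eq_one.1 h))) ?_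
      (fun u hu hc => D.line_fpf hao hHa hu hc)
    rw [← (hacl _ hm x hx.1).eq, inv_mul_cancel_right]
  obtain ⟨K, hKH, hK, ⟨Eq, hqK, hEq⟩, ⟨Es, hsK, hEs⟩⟩ := D.exists_K
  set T := K ⊓ centralizer (zpowers a : Set G) with hT
  have hTmem : ∀ {x : G}, x ∈ K → Commute x a → x ∈ T := fun {x} hx hc =>
    ⟨hx, mem_centralizer_iff.2 fun c hc' => (commute_mem_zpowers hc' hc).symm.eq⟩
  have hTa : ∀ x ∈ T, Commute a x := fun x hx => mem_centralizer_iff.1 hx.2 a (mem_zpowers a)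
  obtain ⟨f, hf, hfo, hfa⟩ := hEq.line (hao ▸ D.pp) (hao ▸ D.pq) ((hqK.trans hKH).trans hHa)
  obtain ⟨f', hf', hf'o, hf'a⟩ := hEs.line (hao ▸ D.pp) (hao ▸ D.ps) ((hsK.trans hKH).trans hHa)
  have hfT : f ∈ T := hTmem (hqK hf) hfa
  have hf'T : f' ∈ T := hTmem (hsK hf') hf'a
  have hT0 : T ≠ ⊥ := fun h => by
    rw [mem_bot.1 (show f ∈ (⊥ : Subgroup G) from h ▸ hfT), orderOf_one] at hfo
    exact D.qp.ne_one hfo.symm
  obtain ⟨B, t, ht, hBT, hB0, hTB, -, hBt, htd, -⟩ :=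
    exists_minimal_invariant (D.solvableSub T) hT0 le_normalizer
  rcases hK t ht (htd.trans (card_dvd_of_le inf_le_left)) with rfl | rfl
  · exact D.core_step (hQH haQ) hao hHa (show P ≤ H from fun x hx => hQH hx.1) hPn (fun x (hx : x ∈ P) => hx.2.1) haP
      (fun x (hx : x ∈ P) => hac x hx.1) (show z ∈ P from ⟨hz, hzo ▸ pow_orderOf_eq_one z, hzmod⟩) hza hfix
      (hsK.trans hKH) hEs (fun x hx => hKH (hBT hx).1) hB0 (fun x hx => hTa x (hBT hx)) hBt
      (hKH hf'T.1) hf'o (hTa f' hf'T) (hTB hf'T)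
  · exact D.swapQS.core_step (hQH haQ) hao hHa (show P ≤ H from fun x hx => hQH hx.1) hPn (fun x (hx : x ∈ P) => hx.2.1) haP
      (fun x (hx : x ∈ P) => hac x hx.1) (show z ∈ P from ⟨hz, hzo ▸ pow_orderOf_eq_one z, hzmod⟩) hza hfix
      (hqK.trans hKH) hEq (fun x hx => hKH (hBT hx).1) hB0 (fun x hx => hTa x (hBT hx)) hBt
      (hKH hfT.1) hfo (hTa f hfT) (hTB hfT)

end CfsgLib.PGroup.FourPrimes
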