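import Cfsg.Agent.Lib.PGroup.FourPrimes.OneModulePlane
import Cfsg.Agent.Lib.PGroup.FourPrimes.OneModuleCyclic

/-!
# Four primes pairwise joined and no three joined: no solvable group
-/

set_option autoImplicit false
set_option linter.style.haveILetI false
set_option linter.unusedSectionVars false

namespace CfsgLib.PGroup.FourPrimes

open Subgroup CfsgLib.Coprime

universe u

variable {G : Type u} [Group G] [Finite G] {r p q s : ℕ} {R H : Subgroup G}

theorem coreOf_isPGroup (H : Subgroup G) (t : ℕ) : IsPGroup t (coreOf H t) :=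
  (pCore_isPGroup t).map _

theorem core_commute {K : Subgroup G} {t : ℕ} (ht : t.Prime) (hQ : IsCyclic (coreOf K t)) {e b : G}
    (he : e ∈ K) (hcop : ¬ t ∣ orderOf e) (hb : b ∈ coreOf K t) (hbo : orderOf b = t)
    (heb : Commute e b) : ∀ g ∈ coreOf K t, Commute e g := by
  haveI := Fact.mk ht
  haveI := hQ
  haveI : IsMulCommutative (coreOf K t) := inferInstance
  obtain ⟨k, hk⟩ := (coreOf_isPGroup K t).exists_card_eq
  refine commute_of_fix_prime_order (coreOf_normalized K t he)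
    (hk ▸ (((Nat.Prime.coprime_iff_not_dvd ht).2 hcop).symm.pow_right k)) fun v hv hvp => ?_
  have hvt : orderOf v = t := (Nat.prime_dvd_prime_iff_eq hvp ht).1
    (hvp.dvd_of_dvd_pow (n := k) (hk ▸ orderOf_dvd_natCard _ hv))
  exact commute_mem_zpowers (mem_zpowers_of_cyclic ht hQ hb hbo hv (hvt ▸ pow_orderOf_eq_one v)) heb

theorem conj_commute_cyclic {Q : Subgroup G} (hQ : IsCyclic Q) {g h : G}
    (hg : g ∈ normalizer (Q : Set G)) (hh : h ∈ normalizer (Q : Set G)) {v : G} (hv : v ∈ Q) :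
    Commute (g * h * g⁻¹ * h⁻¹) v := by
  obtain ⟨⟨c, hc⟩, hgen⟩ := hQ.exists_generator
  have hpow : ∀ x ∈ Q, ∃ i : ℤ, c ^ i = x := fun x hx => by
    obtain ⟨i, hi⟩ := mem_zpowers_iff.1 (hgen ⟨x, hx⟩)
    exact ⟨i, by simpa using congrArg Subtype.val hi⟩
  obtain ⟨i, hi⟩ := hpow _ ((mem_normalizer_iff.1 hg c).1 hc)
  obtain ⟨j, hj⟩ := hpow _ ((mem_normalizer_iff.1 hh c).1 hc)
  have hconj : ∀ x ∈ Q, g * h * x * (g * h)⁻¹ = h * g * x * (h * g)⁻¹ := by
    intro x hx
    obtain ⟨k, rfl⟩ := hpow x hx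
    calc g * h * c ^ k * (g * h)⁻¹ = g * (h * c ^ k * h⁻¹) * g⁻¹ := by group
      _ = c ^ (i * (j * k)) := by rw [← conj_zpow, ← hj, ← zpow_mul, ← conj_zpow, ← hi, ← zpow_mul]
      _ = c ^ (j * (i * k)) := by rw [show i * (j * k) = j * (i * k) by ring]
      _ = h * (g * c ^ k * g⁻¹) * h⁻¹ := by
        rw [← conj_zpow, ← hi, ← zpow_mul, ← conj_zpow, ← hj, ← zpow_mul]
      _ = h * g * c ^ k * (h * g)⁻¹ := by group
  have hmem : (h * g)⁻¹ * v * (h * g) ∈ Q := by
    have := (mem_normalizer_iff.1 (inv_mem (mul_mem hh hg)) v).1 hv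
    simpa using this
  have h1 := hconj _ hmem
  refine mul_inv_eq_iff_eq_mul.1 ?_
  calc g * h * g⁻¹ * h⁻¹ * v * (g * h * g⁻¹ * h⁻¹)⁻¹
      = g * h * ((h * g)⁻¹ * v * (h * g)) * (g * h)⁻¹ := by group
    _ = h * g * ((h * g)⁻¹ * v * (h * g)) * (h * g)⁻¹ := h1
    _ = v := by group

/-- All cores cyclic: the largest prime of the Fitting subgroup gives a contradiction. -/
theorem OneModule.top_trivial (D : OneModule r p q s R H) (hno : NoPlane H) (h0 : coreOf H p ≠ ⊥)
    (hq : coreOf H q ≠ ⊥ → q < p) (hs : coreOf H s ≠ ⊥ → s < p) : False := by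
  haveI := Fact.mk D.pp
  haveI := D.solvable
  obtain ⟨a, haQ, hao, hHa⟩ := D.core_line hno h0
  have hQc := D.core_cyclic hno
  obtain ⟨Ep, hEpH, hEp⟩ := D.planeP
  obtain ⟨e, he, heQ⟩ : ∃ e ∈ Ep, e ∉ coreOf H p := by
    by_contra h
    push Not at h
    haveI := hQc
    exact hEp.not_cyclic (isCyclic_of_le (show Ep ≤ coreOf H p from h))
  have heH : e ∈ H := hEpH he
  have heo : orderOf e = p := hEp.orderOf_eq he fun h => heQ (h ▸ one_mem _)
  have other : ∀ {q s : ℕ}, OneModule r p q s R H → (coreOf H q ≠ ⊥ → q < p) →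
      IsCyclic (coreOf H q) ∧ ∀ g ∈ coreOf H q, Commute e g := by
    intro q s D hq
    refine ⟨D.swapPQ.core_cyclic hno, fun g hg => ?_⟩
    by_cases h : coreOf H q = ⊥
    · rw [mem_bot.1 (show g ∈ (⊥ : Subgroup G) from h ▸ hg)]
      exact Commute.one_right e
    obtain ⟨b, hb, hbo, hHb⟩ := D.swapPQ.core_line hno h
    have heb : Commute e b := by
      by_contra hne
      have h1 := dvd_pred_of_move (heo ▸ D.pp) (hbo ▸ D.qp) (hHb heH) hne
      rw [heo, hbo] at h1
      have := Nat.le_of_dvd (by have := D.qp.two_le; omega) h1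
      have := hq h
      omega
    exact core_commute D.qp (D.swapPQ.core_cyclic hno) heH
      (fun h1 => D.pq ((Nat.prime_dvd_prime_iff_eq D.qp D.pp).1 (heo ▸ h1)).symm) hb hbo heb g hg
  obtain ⟨hqc, heq⟩ := other D hq
  obtain ⟨hsc, hes⟩ := other D.swapQS hs
  set F' := coreOf H q ⊔ coreOf H s with hF'
  have heF' : ∀ g ∈ F', Commute e g := fun g hg => (mem_centralizer_singleton_iff.1
    ((sup_le (fun x hx => mem_centralizer_singleton_iff.2 (heq x hx).symm.eq)
      (fun x hx => mem_centralizer_singleton_iff.2 (hes x hx).symm.eq) :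
        F' ≤ centralizer ({e} : Set G)) hg)).symm
  have hcard : (Nat.card F').Coprime p := by
    haveI := Fact.mk D.qp
    haveI := Fact.mk D.sp
    obtain ⟨i, hi⟩ := (coreOf_isPGroup H q).exists_card_eq
    obtain ⟨j, hj⟩ := (coreOf_isPGroup H s).exists_card_eq
    refine Nat.Coprime.coprime_dvd_left (card_sup_dvd_of_le_normalizer
      ((map_subtype_le _).trans (coreOf_normalized H s))) ?_
    rw [hi, hj]
    exact Nat.Coprime.mul_left (((Nat.coprime_primes D.qp D.pp).2 D.pq.symm).pow_left i)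
      (((Nat.coprime_primes D.sp D.pp).2 D.ps.symm).pow_left j)
  have hQn := coreOf_normalized H p
  have hQH : coreOf H p ≤ H := map_subtype_le _
  have hF'n : F' ≤ normalizer (coreOf H p : Set G) :=
    sup_le ((map_subtype_le _).trans hQn) ((map_subtype_le _).trans hQn)
  have hcommF : ∀ u ∈ coreOf H p, ∀ w ∈ F', Commute u w := by
    intro u hu w hw
    have hcop : (Nat.card (coreOf H p)).Coprime (Nat.card F') := by
      obtain ⟨k, hk⟩ := (coreOf_isPGroup H p).exists_card_eq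
      exact hk ▸ (hcard.symm.pow_left k)
    have hun : coreOf H p ≤ normalizer (F' : Set G) :=
      hQH.trans (sup_le_normalizer (coreOf_normalized H q) (coreOf_normalized H s))
    have h1 : u * w * u⁻¹ * w⁻¹ = 1 := Subgroup.disjoint_def.1 (disjoint_of_coprime_natCard hcop)
      (by
        have := mul_mem hu ((mem_normalizer_iff.1 (hF'n hw) u⁻¹).1 (inv_mem hu))
        simpa [mul_assoc] using this)
      (mul_mem ((mem_normalizer_iff.1 (hun hu) w).1 hw) (inv_mem hw))
    exact mul_inv_eq_iff_eq_mul.1 (mul_inv_eq_one.1 h1)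
  -- the conjugates of `e` lie in `O_p ⊔ ⟨e⟩`
  have hconj : ∀ h ∈ H, h * e * h⁻¹ ∈ coreOf H p ⊔ zpowers e := by
    intro h hh
    set x := h * e * h⁻¹ * e⁻¹ with hx
    have hxH : x ∈ H := mul_mem (mul_mem (mul_mem hh heH) (inv_mem hh)) (inv_mem heH)
    have hxc : ∀ t, (t = p ∨ t = q ∨ t = s) → ∀ g ∈ coreOf H t, Commute x g := by
      rintro t ht g hg
      refine conj_commute_cyclic ?_ (coreOf_normalized H t hh) (coreOf_normalized H t heH) hg
      rcases ht with rfl | rfl | rfl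
      exacts [hQc, hqc, hsc]
    have hfit : (⟨x, hxH⟩ : H) ∈ centralizer (Cfsg.fittingSubgroup H : Set H) := by
      rw [mem_centralizer_iff]
      intro y hy
      have hle : Cfsg.fittingSubgroup H ≤ centralizer ({(⟨x, hxH⟩ : H)} : Set H) := by
        rw [fitting_eq_iSup_pCore]
        refine iSup_le fun t => fun y hy => mem_centralizer_singleton_iff.2 ?_
        haveI : Fact (t : ℕ).Prime := ⟨t.2⟩
        by_cases hy1 : y = 1
        · simp [hy1]
        have htd : (t : ℕ) ∣ Nat.card H := by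
          obtain ⟨k, hk⟩ := (pCore_isPGroup (t : ℕ) (G := H)).exists_card_eq
          rcases k with _ | k
          · exact absurd (mem_bot.1 ((Subgroup.card_eq_one.1 (hk.trans (pow_zero _))) ▸ hy)) hy1
          · exact ((hk ▸ dvd_pow_self _ (Nat.succ_ne_zero k) : (t : ℕ) ∣ _)).trans
              (card_subgroup_dvd_card _)
        refine Subtype.ext ?_
        exact (hxc t (by simpa using D.Hpi t t.2 htd) y (mem_map_of_mem _ hy)).symm.eq
      exact mem_centralizer_singleton_iff.1 (hle hy)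
    have hxF : x ∈ coreOf H p ⊔ F' := by
      have h1 : (Cfsg.fittingSubgroup H).map H.subtype ≤ coreOf H p ⊔ F' := by
        rw [fitting_eq_iSup_pCore, Subgroup.map_iSup]
        refine iSup_le fun t => ?_
        haveI : Fact (t : ℕ).Prime := ⟨t.2⟩
        obtain ⟨k, hk⟩ := (pCore_isPGroup (t : ℕ) (G := H)).exists_card_eq
        rcases k with _ | k
        · rw [Subgroup.card_eq_one.1 (hk.trans (pow_zero _)), Subgroup.map_bot]
          exact bot_le
        have htd : (t : ℕ) ∣ Nat.card H :=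
          ((hk ▸ dvd_pow_self _ (Nat.succ_ne_zero k) : (t : ℕ) ∣ _)).trans (card_subgroup_dvd_card _)
        rcases D.Hpi t t.2 htd with h | h | h
        · rw [h]; exact le_sup_left
        · rw [h]; exact le_sup_of_le_right le_sup_left
        · rw [h]; exact le_sup_of_le_right le_sup_right
      exact h1 ⟨⟨x, hxH⟩, centralizer_fitting_le hfit, rfl⟩
    obtain ⟨u, hu, w, hw, huw⟩ := mem_sup_exists hF'n hxF
    have heq' : h * e * h⁻¹ = u * e * w := by
      calc h * e * h⁻¹ = x * e := by rw [hx]; group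
        _ = u * e * w := by rw [← huw, mul_assoc, (heF' w hw).symm.eq, ← mul_assoc]
    have hue : u * e ∈ coreOf H p ⊔ zpowers e := mul_mem_sup hu (mem_zpowers e)
    have hPp : IsPGroup p (coreOf H p ⊔ zpowers e : Subgroup G) :=
      CfsgLib.Invol.isPGroup_sup (coreOf_isPGroup H p)
        (IsPGroup.of_card (n := 1) (by rw [Nat.card_zpowers, heo, pow_one]))
        (zpowers_le.2 (hQn heH))
    obtain ⟨k, hk⟩ := hPp ⟨u * e, hue⟩
    have hk' : (u * e) ^ p ^ k = 1 := congrArg Subtype.val hk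
    have hcw : Commute (u * e) w := ((hcommF u hu w hw).mul_left (heF' w hw))
    have hwk : w ^ p ^ (k + 1) = 1 := by
      have h1 : (u * e * w) ^ p ^ (k + 1) = 1 := by
        rw [← heq', conj_pow, pow_succ', pow_mul, show e ^ p = 1 from hEp.pow e he]
        simp
      rwa [hcw.mul_pow, pow_succ, pow_mul (u * e), hk', one_pow, one_mul, ← pow_succ] at h1
    have hw1 : w = 1 := by
      refine orderOf_eq_one_iff.1 (Nat.eq_one_of_dvd_coprimes (hcard.pow_right (k + 1))
        (orderOf_dvd_natCard _ hw) (orderOf_dvd_of_pow_eq_one hwk))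
    rw [heq', hw1, mul_one]
    exact hue
  set P := coreOf H p ⊔ zpowers e with hP
  have hPH : P ≤ H := sup_le hQH (zpowers_le.2 heH)
  have hle : ∀ h ∈ H, conjBy h P ≤ P := by
    intro h hh
    rw [hP, conjBy, Subgroup.map_sup, MonoidHom.map_zpowers]
    refine sup_le ((le_of_eq (conjBy_eq_self_iff.2 (hQn hh))).trans le_sup_left) (zpowers_le.2 ?_)
    simpa using hconj h hh
  have hPn : H ≤ normalizer (P : Set G) := fun h hh =>
    conjBy_eq_self_iff.1 (eq_of_le_of_card_ge (hle h hh) (by rw [card_conjBy]))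
  exact heQ (le_coreOf hPH hPn (CfsgLib.Invol.isPGroup_sup (coreOf_isPGroup H p)
    (IsPGroup.of_card (n := 1) (by rw [Nat.card_zpowers, heo, pow_one]))
    (zpowers_le.2 (hQn heH))) (mem_sup_right (mem_zpowers e)))

/-- The configuration with one module does not occur. -/
theorem OneModule.false (D : OneModule r p q s R H) : False := by
  haveI := D.solvable
  by_cases hno : NoPlane H
  · obtain ⟨E, hE1, hE⟩ := D.planeP
    have hH0 : H ≠ ⊥ := fun h => hE.not_cyclic (by
      rw [show E = ⊥ from le_bot_iff.1 (h ▸ hE1)]; exact isCyclic_of_subsingleton)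
    obtain ⟨B, t, ht, hBH, hB0, hHB, -, hBt, htd, -⟩ :=
      exists_minimal_invariant (D.solvableSub H) hH0 le_normalizer
    have htc : coreOf H t ≠ ⊥ := fun h => hB0 (le_bot_iff.1 (h ▸ le_coreOf hBH hHB
      (fun x => ⟨1, Subtype.ext (by simpa using hBt x x.2)⟩)))
    have key : ∀ {p q s : ℕ}, OneModule r p q s R H → coreOf H p ≠ ⊥ → False := by
      intro p q s D h0
      by_cases hqp : coreOf H q ≠ ⊥ ∧ p < q
      · by_cases hsq : coreOf H s ≠ ⊥ ∧ q < s
        · exact D.swapQS.swapPQ.top_trivial hno hsq.1 (fun _ => hqp.2.trans hsq.2) (fun _ => hsq.2)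
        · exact D.swapPQ.top_trivial hno hqp.1 (fun _ => hqp.2)
            (fun h => lt_of_le_of_ne (not_lt.1 fun h' => hsq ⟨h, h'⟩) D.qs.symm)
      · by_cases hsp : coreOf H s ≠ ⊥ ∧ p < s
        · exact D.swapQS.swapPQ.top_trivial hno hsp.1 (fun _ => hsp.2)
            (fun h => (lt_of_le_of_ne (not_lt.1 fun h' => hqp ⟨h, h'⟩) D.pq.symm).trans hsp.2)
        · exact D.top_trivial hno h0
            (fun h => lt_of_le_of_ne (not_lt.1 fun h' => hqp ⟨h, h'⟩) D.pq.symm)
            (fun h => lt_of_le_of_ne (not_lt.1 fun h' => hsp ⟨h, h'⟩) D.ps.symm)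
    rcases D.Hpi t ht htd with rfl | rfl | rfl
    · exact key D htc
    · exact key D.swapPQ htc
    · exact key D.swapQS.swapPQ htc
  · simp only [NoPlane] at hno
    push Not at hno
    obtain ⟨t, A, hAH, hA, hHA⟩ := hno
    obtain ⟨k, hk⟩ := card_eq_pow hA.prime hA.pow
    rcases k with _ | k
    · exact hA.not_cyclic (by rw [Subgroup.card_eq_one.1 (hk.trans (pow_zero t))]; exact isCyclic_of_subsingleton)
    have htd : t ∣ Nat.card H := (hk ▸ dvd_pow_self t (Nat.succ_ne_zero k)).trans (card_dvd_of_le hAH)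
    rcases D.Hpi t hA.prime htd with rfl | rfl | rfl
    · exact D.no_plane hAH hA hHA
    · exact D.swapPQ.no_plane hAH hA hHA
    · exact D.swapQS.swapPQ.no_plane hAH hA hHA

/-- Solvable groups for four primes with planes and no triples do not exist. -/
theorem false_of_planes [Group.IsSolvable G] (hG : NoTriple G) (σ : Finset ℕ) (hσ : σ.card = 4)
    (hp : ∀ t ∈ σ, t.Prime) (hπ : IsPiNum (σ : Set ℕ) (Nat.card G))
    (hE : ∀ t ∈ σ, ∃ E : Subgroup G, Plane t E) : False := by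
  classical
  have hsol : ∀ X : Subgroup G, Group.IsSolvable X := fun X => inferInstance
  obtain ⟨t₀, ht₀⟩ := Finset.card_pos.1 (hσ.symm ▸ (by norm_num : 0 < 4))
  have htop : (⊤ : Subgroup G) ≠ ⊥ := by
    obtain ⟨E, hE'⟩ := hE t₀ ht₀
    intro h
    exact hE'.not_cyclic (by
      rw [show E = ⊥ from le_bot_iff.1 (h ▸ le_top)]; exact isCyclic_of_subsingleton)
  obtain ⟨V, r, hr, -, hV0, hVn, hVc, hVr, hrd, -⟩ :=
    exists_minimal_invariant (hsol ⊤) htop (le_normalizer : (⊤ : Subgroup G) ≤ _)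
  have hVn' : V.Normal := normalizer_eq_top_iff.1 (top_le_iff.1 hVn)
  have hrσ : r ∈ σ := hπ r hr (hrd.trans (card_top (G := G)).dvd)
  haveI := Fact.mk hr
  have hplane : ∀ (π : Set ℕ) (t : ℕ) (L : Subgroup G), IsHallIn π L ⊤ → t ∈ σ → t ∈ π →
      ∃ E ≤ L, Plane t E := fun π t L hL htσ htπ => by
    obtain ⟨E, hE'⟩ := hE t htσ
    exact hE'.exists_in_hall hL (hsol ⊤) htπ le_top
  by_cases hone : ∀ p ∈ σ, p ≠ r → Cfsg.pCore p G = ⊥
  · obtain ⟨p, q, s, hpq, hps, hqs, heq⟩ :=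
      Finset.card_eq_three.1 (show (σ.erase r).card = 3 by rw [Finset.card_erase_of_mem hrσ, hσ])
    have hm : ∀ x, x ∈ ({p, q, s} : Finset ℕ) ↔ x ≠ r ∧ x ∈ σ := fun x => by
      rw [← heq, Finset.mem_erase]
    obtain ⟨hpr, hpσ⟩ := (hm p).1 (by simp)
    obtain ⟨hqr, hqσ⟩ := (hm q).1 (by simp)
    obtain ⟨hsr, hsσ⟩ := (hm s).1 (by simp)
    set R := Cfsg.pCore r G with hR
    have hRn : R.Normal := pCore_normal' r
    have hfit : Cfsg.fittingSubgroup G ≤ R := by
      rw [fitting_eq_iSup_pCore]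
      refine iSup_le fun t => ?_
      by_cases htr : (t : ℕ) = r
      · rw [htr]
      by_cases htσ : (t : ℕ) ∈ σ
      · rw [hone t htσ htr]; exact bot_le
      haveI : Fact (t : ℕ).Prime := ⟨t.2⟩
      obtain ⟨k, hk⟩ := (pCore_isPGroup (t : ℕ) (G := G)).exists_card_eq
      rcases k with _ | k
      · rw [Subgroup.card_eq_one.1 (hk.trans (pow_zero _))]; exact bot_le
      exact absurd (hπ t t.2 (((hk ▸ dvd_pow_self _ (Nat.succ_ne_zero k) : (t : ℕ) ∣ _)).trans
        (card_subgroup_dvd_card _))) htσ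
    obtain ⟨H, hH⟩ := exists_hallIn ({p, q, s} : Set ℕ) (hsol ⊤)
    refine OneModule.false (r := r) (p := p) (q := q) (s := s) (R := R) (H := H)
      ⟨hG, inferInstance, hr, hp p hpσ, hp q hqσ, hp s hsσ, hpr.symm, hqr.symm, hsr.symm, hpq, hps, hqs,
        hRn, pCore_isPGroup r, fun h => hV0 (le_bot_iff.1 (h ▸ ?_)), hH.2.1, ?_,
        hplane _ p H hH hpσ (by simp), hplane _ q H hH hqσ (by simp), hplane _ s H hH hsσ (by simp)⟩
    · haveI := hVn'
      exact CfsgLib.Coprime.le_pCore fun x => ⟨1, Subtype.ext (by simpa using hVr x x.2)⟩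
    · refine (eq_bot_iff_forall _).2 fun x hx => ?_
      have hxR : x ∈ R := hfit (centralizer_fitting_le
        (Subgroup.centralizer_le (SetLike.coe_subset_coe.2 hfit) hx.2))
      refine Subgroup.disjoint_def.1 (disjoint_of_coprime_natCard (H := H) (K := R) ?_) hx.1 hxR
      obtain ⟨k, hk⟩ := (pCore_isPGroup r (G := G)).exists_card_eq
      rw [hk]
      refine (((Nat.Prime.coprime_iff_not_dvd hr).2 fun h => ?_).pow_left k).symm
      rcases hH.2.1 r hr h with h' | h' | h'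
      exacts [hpr h'.symm, hqr h'.symm, hsr h'.symm]
  · push Not at hone
    obtain ⟨p, hpσ, hpr, hp0⟩ := hone
    haveI := Fact.mk (hp p hpσ)
    obtain ⟨q, s, hqs, heq⟩ := Finset.card_eq_two.1
      (show ((σ.erase r).erase p).card = 2 by
        rw [Finset.card_erase_of_mem (Finset.mem_erase.2 ⟨hpr, hpσ⟩), Finset.card_erase_of_mem hrσ, hσ])
    have hm : ∀ x, x ∈ ({q, s} : Finset ℕ) ↔ x ≠ p ∧ x ≠ r ∧ x ∈ σ := fun x => by
      rw [← heq, Finset.mem_erase, Finset.mem_erase]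
    obtain ⟨hqp, hqr, hqσ⟩ := (hm q).1 (by simp)
    obtain ⟨hsp, hsr, hsσ⟩ := (hm s).1 (by simp)
    haveI := pCore_normal' (G := G) p
    obtain ⟨U, t, ht, hUc', hU0, hUn, hUc, hUt, htd, -⟩ := exists_minimal_invariant
      (hsol (Cfsg.pCore p G)) hp0 (K := ⊤) (by rw [normalizer_eq_top])
    obtain ⟨k, hk⟩ := (pCore_isPGroup p (G := G)).exists_card_eq
    have htp : t = p := (Nat.prime_dvd_prime_iff_eq ht (hp p hpσ)).1 (ht.dvd_of_dvd_pow (hk ▸ htd))
    subst htp
    obtain ⟨K, hK⟩ := exists_hallIn ({q, s} : Set ℕ) (hsol ⊤)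
    exact TwoModules.false (p := t) (r := r) (q := q) (s := s) (U := U) (V := V) (K := K)
      ⟨hG, inferInstance, ht, hr, hp q hqσ, hp s hsσ, hpr, hqp.symm, hsp.symm, hqr.symm, hsr.symm, hqs,
        normalizer_eq_top_iff.1 (top_le_iff.1 hUn), hVn', hUc, hVc, hUt, hVr, hU0, hV0, hK.2.1,
        hplane _ q K hK hqσ (by simp), hplane _ s K hK hsσ (by simp)⟩

/-- Commuting powers of two coprime prime orders inside an element of order `a * b`. -/
theorem exists_parts {g : G} {a b : ℕ} (ha : a.Prime) (hb : b.Prime) (hg : orderOf g = a * b) :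
    orderOf (g ^ b) = a ∧ orderOf (g ^ a) = b := by
  constructor
  · rw [orderOf_pow, hg, Nat.gcd_eq_right (dvd_mul_left b a), Nat.mul_div_cancel _ hb.pos]
  · rw [orderOf_pow, hg, Nat.gcd_eq_right (dvd_mul_right a b), Nat.mul_div_cancel_left _ ha.pos]

/-- Four primes pairwise joined with no three joined: the group is not solvable. -/
theorem not_isSolvable (σ : Finset ℕ) (hσ : 4 ≤ σ.card) (hprime : ∀ p ∈ σ, p.Prime)
    (h2 : ∀ p ∈ σ, ∀ q ∈ σ, p ≠ q → ∃ g : G, orderOf g = p * q)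
    (h3 : ∀ p ∈ σ, ∀ q ∈ σ, ∀ r ∈ σ, p ≠ q → q ≠ r → p ≠ r → ∀ g : G, orderOf g ≠ p * q * r) :
    ¬ Group.IsSolvable G := by
  classical
  intro hsolv
  haveI := hsolv
  obtain ⟨τ, hτσ, hτ⟩ := Finset.exists_subset_card_eq hσ
  obtain ⟨G₁, hG₁⟩ := exists_hallIn (τ : Set ℕ) (inferInstance : Group.IsSolvable (⊤ : Subgroup G))
  have hmemτ : ∀ x : G₁, (orderOf x).Prime → orderOf x ∈ τ := fun x hx =>
    hG₁.2.1 _ hx (orderOf_dvd_natCard x)
  have hNT : NoTriple G₁ := by
    intro x y z hx hy hz hxy hxz hyz hc hcz hyzc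
    refine h3 _ (hτσ (hmemτ x hx)) _ (hτσ (hmemτ y hy)) _ (hτσ (hmemτ z hz)) hxy hyz hxz
      ((x * y * z : G₁) : G) ?_
    rw [Subgroup.orderOf_coe]
    have h1 := hc.orderOf_mul_eq_mul_orderOf_of_coprime ((Nat.coprime_primes hx hy).2 hxy)
    rw [(hcz.mul_left hyzc).orderOf_mul_eq_mul_orderOf_of_coprime (by
      rw [h1]
      exact Nat.Coprime.mul_left ((Nat.coprime_primes hx hz).2 hxz) ((Nat.coprime_primes hy hz).2 hyz)), h1]
  have hpair : ∀ a ∈ τ, ∀ b ∈ τ, a ≠ b → ∃ x y : G₁, orderOf x = a ∧ orderOf y = b ∧ Commute x y := by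
    intro a ha b hb hab
    obtain ⟨g, hg⟩ := h2 a (hτσ ha) b (hτσ hb) hab
    have hpa := hprime a (hτσ ha)
    have hpb := hprime b (hτσ hb)
    obtain ⟨c, -, hc⟩ := hG₁.exists_conj_le (inferInstance : Group.IsSolvable (⊤ : Subgroup G))
      (le_top : zpowers g ≤ ⊤) (by
        rw [Nat.card_zpowers, hg]
        exact ((pow_one a ▸ isPiNum_singleton_of_pow (k := 1) hpa).mono
          (Set.singleton_subset_iff.2 (Finset.mem_coe.2 ha))).mul
          ((pow_one b ▸ isPiNum_singleton_of_pow (k := 1) hpb).mono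
          (Set.singleton_subset_iff.2 (Finset.mem_coe.2 hb))))
    have hmem : MulAut.conj c g ∈ G₁ := hc ⟨g, mem_zpowers g, rfl⟩
    have ho : orderOf (⟨MulAut.conj c g, hmem⟩ : G₁) = a * b := by
      rw [Subgroup.orderOf_mk, ← hg]
      exact orderOf_injective (MulAut.conj c).toMonoidHom (MulAut.conj c).injective g
    obtain ⟨h1, h2⟩ := exists_parts hpa hpb ho
    exact ⟨_, _, h1, h2, Commute.pow_pow_self _ b a⟩
  refine false_of_planes hNT τ hτ (fun t ht => hprime t (hτσ ht)) hG₁.2.1 fun t ht => ?_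
  have htp := hprime t (hτσ ht)
  haveI := Fact.mk htp
  obtain ⟨u, v, w, huv, huw, hvw, heq⟩ :=
    Finset.card_eq_three.1 (show (τ.erase t).card = 3 by rw [Finset.card_erase_of_mem ht, hτ])
  have hm : ∀ x ∈ ({u, v, w} : Finset ℕ), x ≠ t ∧ x ∈ τ := fun x hx => by
    rwa [← heq, Finset.mem_erase] at hx
  obtain ⟨hut, huτ⟩ := hm u (by simp)
  obtain ⟨hvt, hvτ⟩ := hm v (by simp)
  obtain ⟨hwt, hwτ⟩ := hm w (by simp)
  let P : Sylow t G₁ := default
  obtain ⟨x₀, -, hx₀, -, -⟩ := hpair t ht u huτ hut.symm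
  have htd : t ∣ Nat.card (P : Subgroup G₁) :=
    P.dvd_card_of_dvd_card (hx₀ ▸ orderOf_dvd_natCard x₀)
  rcases exists_plane_or_unique P.2 htd with ⟨E, -, hE⟩ | ⟨a, -, hao, huniq⟩
  · exact ⟨E, hE⟩
  exfalso
  haveI : Group.IsSolvable G₁ := inferInstance
  have hdvd : ∀ b ∈ τ, b ≠ t → b ∣ Nat.card (centralizer ({a} : Set G₁)) := by
    intro b hb hbt
    obtain ⟨x, y, hx, hy, hc⟩ := hpair t ht b hb hbt.symm
    obtain ⟨Q, hQ⟩ := (IsPGroup.of_card (n := 1) (by rw [Nat.card_zpowers, hx, pow_one]) :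
      IsPGroup t (zpowers x)).exists_le_sylow
    obtain ⟨c, rfl⟩ := MulAction.exists_smul_eq G₁ P Q
    have hxc := hQ (mem_zpowers x)
    rw [Sylow.coe_subgroup_smul, Subgroup.mem_pointwise_smul_iff_inv_smul_mem] at hxc
    have hxP : c⁻¹ * x * c ∈ (P : Subgroup G₁) := by simpa using hxc
    have hca := huniq _ hxP (by
      have h := conj_pow (a := c⁻¹) (b := x) (i := t)
      rw [inv_inv] at h
      rw [h, ← hx, pow_orderOf_eq_one]
      group)
    have hcom : Commute (c⁻¹ * y * c) a := by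
      refine commute_of_mem_zpowers (hao ▸ htp) hca (fun h => ?_) ?_
      · have : x = 1 := by simpa [mul_assoc] using congrArg (fun z => c * z * c⁻¹) h
        rw [this, orderOf_one] at hx
        exact htp.ne_one hx.symm
      · calc c⁻¹ * y * c * (c⁻¹ * x * c) = c⁻¹ * (y * x) * c := by group
          _ = c⁻¹ * (x * y) * c := by rw [hc.eq]
          _ = c⁻¹ * x * c * (c⁻¹ * y * c) := by group
    rw [← hy, ← (show orderOf (c⁻¹ * y * c) = orderOf y by
      have h := orderOf_injective (MulAut.conj c⁻¹).toMonoidHom (MulAut.conj c⁻¹).injective y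
      simpa using h)]
    exact orderOf_dvd_natCard _ (mem_centralizer_singleton_iff.2 hcom.eq)
  exact hNT.three (X := centralizer ({a} : Set G₁)) (hao ▸ htp)
    (fun x hx => (mem_centralizer_singleton_iff.1 hx).symm) (hprime u (hτσ huτ)) (hprime v (hτσ hvτ))
    (hprime w (hτσ hwτ)) huv huw hvw (hao ▸ hut.symm) (hao ▸ hvt.symm) (hao ▸ hwt.symm)
    (hdvd u huτ hut) (hdvd v hvτ hvt) (hdvd w hwτ hwt)

end CfsgLib.PGroup.FourPrimes
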