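import Cfsg.Agent.Lib.PGroup.FourPrimes.Basic

/-!
# Commuting pairs among three primes, and moved modules
-/

set_option autoImplicit false
set_option linter.style.haveILetI false
set_option linter.unusedSectionVars false

namespace CfsgLib.PGroup.FourPrimes

open Subgroup CfsgLib.Coprime
open scoped commutatorElement

universe u

variable {G : Type u} [Group G] [Finite G]

theorem exists_orderOf_eq {X : Subgroup G} {t : ℕ} (ht : t.Prime) (hd : t ∣ Nat.card X) :
    ∃ x ∈ X, orderOf x = t := by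
  haveI := Fact.mk ht
  obtain ⟨x, hx⟩ := exists_prime_orderOf_dvd_card' t hd
  exact ⟨x, x.2, (orderOf_coe x).trans hx⟩

theorem dvd_hall {π : Set ℕ} {H L : Subgroup G} (h : IsHallIn π H L) {t : ℕ} (ht : t.Prime)
    (htπ : t ∈ π) (hd : t ∣ Nat.card L) : t ∣ Nat.card H := by
  rw [← card_mul_relIndex h.1] at hd
  exact ((Nat.Prime.dvd_mul ht).1 hd).resolve_right fun h' => h.2.2 t ht h' htπ

theorem prime_eq_of_pow {t : ℕ} {B : Subgroup G} (ht : t.Prime) (hB0 : B ≠ ⊥)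
    (hpow : ∀ x ∈ B, x ^ t = 1) : t ∣ Nat.card B := by
  obtain ⟨k, hk⟩ := card_eq_pow ht hpow
  rcases k with _ | k
  · exact absurd (Subgroup.card_eq_one.1 (hk.trans (pow_zero t))) hB0
  · exact hk ▸ dvd_pow_self t (Nat.succ_ne_zero k)

theorem exists_commuting_three_aux {Y : Subgroup G} (hs : Group.IsSolvable Y) {t a b : ℕ}
    (ht : t.Prime) (ha : a.Prime) (hb : b.Prime) (hta : t ≠ a) (htb : t ≠ b) (hab : a ≠ b)
    (hda : a ∣ Nat.card Y) (hdb : b ∣ Nat.card Y)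
    {N : Subgroup G} (hNY : N ≤ Y) (hN0 : N ≠ ⊥) (hYN : Y ≤ normalizer (N : Set G))
    (hNc : IsMulCommutative N) (hNt : ∀ x ∈ N, x ^ t = 1) :
    ∃ x ∈ Y, ∃ y ∈ Y, orderOf x ∈ ({t, a, b} : Set ℕ) ∧ orderOf y ∈ ({t, a, b} : Set ℕ) ∧
      orderOf x ≠ orderOf y ∧ Commute x y := by
  by_contra hne
  push Not at hne
  haveI := Fact.mk ht
  obtain ⟨K, hK⟩ := exists_hallIn ({a, b} : Set ℕ) hs
  have hKa : a ∣ Nat.card K := dvd_hall hK ha (by simp) hda
  have hKb : b ∣ Nat.card K := dvd_hall hK hb (by simp) hdb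
  have hKs : Group.IsSolvable K :=
    haveI := hs
    Group.isSolvable_of_isSolvable_injective (inclusion_injective hK.1)
  have hK0 : K ≠ ⊥ := fun h => by
    rw [h, card_bot] at hKa
    exact ha.ne_one (Nat.dvd_one.1 hKa)
  obtain ⟨M, u, hu, hMK, hM0, hKM, -, hMu, hud, -⟩ :=
    exists_minimal_invariant hKs hK0 le_normalizer
  have hu' : u = a ∨ u = b := hK.2.1 u hu hud
  obtain ⟨w, hw, hwu, hw', hwK⟩ : ∃ w : ℕ, w.Prime ∧ w ≠ u ∧ (w = a ∨ w = b) ∧ w ∣ Nat.card K := by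
    rcases hu' with rfl | rfl
    exacts [⟨b, hb, hab.symm, Or.inr rfl, hKb⟩, ⟨a, ha, hab, Or.inl rfl, hKa⟩]
  obtain ⟨z, hz, hzo⟩ := exists_orderOf_eq hw hwK
  have hmem : ∀ c : ℕ, c = a ∨ c = b → c ∈ ({t, a, b} : Set ℕ) := by
    rintro c (rfl | rfl) <;> simp
  have htu : t ≠ u := by rcases hu' with rfl | rfl <;> assumption
  have htw : t ≠ w := by rcases hw' with rfl | rfl <;> assumption
  haveI := Fact.mk hu
  have hfree : ∀ m ∈ M, Commute z m → m = 1 := fun m hm hc => by_contra fun hm1 =>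
    hne z (hK.1 hz) m (hK.1 (hMK hm)) (hzo ▸ hmem w hw')
      ((orderOf_eq_prime (hMu m hm) hm1).symm ▸ hmem u hu')
      (by rw [hzo, orderOf_eq_prime (hMu m hm) hm1]; exact hwu) hc
  obtain ⟨m, hm, hm1⟩ := M.bot_or_exists_ne_one.resolve_left hM0
  have hMN : M ≤ normalizer (N : Set G) := (hMK.trans hK.1).trans hYN
  have hNpair : ∀ x ∈ Y, orderOf x ∈ ({t, a, b} : Set ℕ) → orderOf x ≠ t →
      ∀ v ∈ N, v ≠ 1 → ¬ Commute x v := fun x hx hxo hxt v hv hv1 hc =>
    hne x hx v (hNY hv) hxo ((orderOf_eq_prime (hNt v hv) hv1).symm ▸ by simp)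
      (by rw [orderOf_eq_prime (hNt v hv) hv1]; exact hxt) hc
  obtain ⟨v, hv, hv1, hc⟩ := exists_fixed_of_semiregular (r := t) (A := M) (R := N) (b := z)
    (fun x => ⟨1, Subtype.ext (by simpa using hNt x x.2)⟩) (not_dvd_of_pow hu ht htu hMu)
    (by rw [hzo]; exact fun h => htw ((Nat.prime_dvd_prime_iff_eq ht hw).1 h))
    hMN (hYN (hK.1 hz)) (hKM hz)
    (fun i hi x hx hc => hfree x hx (eq_one_of_commute_pow hw hzo hi hc))
    (fun h => by
      obtain ⟨v, hv, hv1⟩ := N.bot_or_exists_ne_one.resolve_left hN0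
      refine hNpair m (hK.1 (hMK hm)) ?_ ?_ v hv hv1 (mem_centralizer_iff.1 (h hm) v hv).symm
      · rw [orderOf_eq_prime (hMu m hm) hm1]; exact hmem u hu'
      · rw [orderOf_eq_prime (hMu m hm) hm1]; exact htu.symm)
  exact hNpair z (hK.1 hz) (hzo ▸ hmem w hw') (hzo ▸ htw.symm) v hv hv1 hc

/-- Among three primes dividing a solvable group two are the orders of commuting elements. -/
theorem exists_commuting_three {X : Subgroup G} (hs : Group.IsSolvable X) {u v w : ℕ}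
    (hu : u.Prime) (hv : v.Prime) (hw : w.Prime) (huv : u ≠ v) (huw : u ≠ w) (hvw : v ≠ w)
    (hdu : u ∣ Nat.card X) (hdv : v ∣ Nat.card X) (hdw : w ∣ Nat.card X) :
    ∃ x ∈ X, ∃ y ∈ X, orderOf x ∈ ({u, v, w} : Set ℕ) ∧ orderOf y ∈ ({u, v, w} : Set ℕ) ∧
      orderOf x ≠ orderOf y ∧ Commute x y := by
  obtain ⟨Y, hY⟩ := exists_hallIn ({u, v, w} : Set ℕ) hs
  have hYu : u ∣ Nat.card Y := dvd_hall hY hu (by simp) hdu
  have hYv : v ∣ Nat.card Y := dvd_hall hY hv (by simp) hdv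
  have hYw : w ∣ Nat.card Y := dvd_hall hY hw (by simp) hdw
  have hYs : Group.IsSolvable Y :=
    haveI := hs
    Group.isSolvable_of_isSolvable_injective (inclusion_injective hY.1)
  have hY0 : Y ≠ ⊥ := fun h => by
    rw [h, card_bot] at hYu
    exact hu.ne_one (Nat.dvd_one.1 hYu)
  obtain ⟨N, t, ht, hNY, hN0, hYN, hNc, hNt, htd, -⟩ :=
    exists_minimal_invariant hYs hY0 le_normalizer
  rcases hY.2.1 t ht htd with rfl | rfl | rfl
  · obtain ⟨x, hx, y, hy, h⟩ := exists_commuting_three_aux hYs ht hv hw huv huw hvw hYv hYw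
      hNY hN0 hYN hNc hNt
    exact ⟨x, hY.1 hx, y, hY.1 hy, h⟩
  · obtain ⟨x, hx, y, hy, h⟩ := exists_commuting_three_aux hYs ht hu hw huv.symm hvw huw hYu hYw
      hNY hN0 hYN hNc hNt
    refine ⟨x, hY.1 hx, y, hY.1 hy, ?_⟩
    rw [Set.insert_comm] at h
    exact h
  · obtain ⟨x, hx, y, hy, h⟩ := exists_commuting_three_aux hYs ht hu hv huw.symm hvw.symm huv hYu hYv
      hNY hN0 hYN hNc hNt
    refine ⟨x, hY.1 hx, y, hY.1 hy, ?_⟩
    rw [Set.insert_comm t u, Set.pair_comm t v] at h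
    exact h

/-- The centralizer of an element of prime order misses one of three other primes. -/
theorem NoTriple.three (hG : NoTriple G) [Group.IsSolvable G] {a : G} (ha : (orderOf a).Prime)
    {X : Subgroup G} (hX : ∀ x ∈ X, Commute a x) {u v w : ℕ}
    (hu : u.Prime) (hv : v.Prime) (hw : w.Prime) (huv : u ≠ v) (huw : u ≠ w) (hvw : v ≠ w)
    (hau : orderOf a ≠ u) (hav : orderOf a ≠ v) (haw : orderOf a ≠ w)
    (hdu : u ∣ Nat.card X) (hdv : v ∣ Nat.card X) (hdw : w ∣ Nat.card X) : False := by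
  obtain ⟨x, hx, y, hy, hxo, hyo, hxy, hc⟩ :=
    exists_commuting_three (X := X) inferInstance hu hv hw huv huw hvw hdu hdv hdw
  have key : ∀ c : ℕ, c ∈ ({u, v, w} : Set ℕ) → c.Prime ∧ orderOf a ≠ c := by
    rintro c (rfl | rfl | rfl)
    exacts [⟨hu, hau⟩, ⟨hv, hav⟩, ⟨hw, haw⟩]
  exact hG a x y ha (key _ hxo).1 (key _ hyo).1 (key _ hxo).2 (key _ hyo).2 hxy (hX x hx) (hX y hy) hc

/-- Two planes in a solvable group for two primes give a commuting pair. -/
theorem exists_pair {K : Subgroup G} (hs : Group.IsSolvable K) {q s : ℕ}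
    (hπ : IsPiNum {q, s} (Nat.card K)) (hqs : q ≠ s) {Eq Es : Subgroup G} (hq : Plane q Eq)
    (hs' : Plane s Es) (hqK : Eq ≤ K) (hsK : Es ≤ K) :
    ∃ c ∈ K, ∃ d ∈ K, orderOf c = q ∧ orderOf d = s ∧ Commute c d := by
  have hK0 : K ≠ ⊥ := fun h => hq.not_cyclic <| by
    have := le_bot_iff.1 (hqK.trans h.le)
    subst this
    exact isCyclic_of_subsingleton
  obtain ⟨N, t, ht, hNK, hN0, hKN, -, hNt, htd, -⟩ := exists_minimal_invariant hs hK0 le_normalizer
  haveI := Fact.mk ht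
  rcases hπ t ht htd with rfl | rfl
  · obtain ⟨e, he, heo, v, hv, hv1, hc⟩ := hs'.exists_fixed (hsK.trans hKN)
      (not_dvd_of_pow ht hs'.prime hqs.symm hNt) hN0
    exact ⟨v, hNK hv, e, hsK he, orderOf_eq_prime (hNt v hv) hv1, heo, hc.symm⟩
  · obtain ⟨e, he, heo, v, hv, hv1, hc⟩ := hq.exists_fixed (hqK.trans hKN)
      (not_dvd_of_pow ht hq.prime hqs hNt) hN0
    exact ⟨e, hqK he, v, hNK hv, heo, orderOf_eq_prime (hNt v hv) hv1, hc⟩

theorem conj_mem_commutator {B : Subgroup G} {d : G} (hd : d ∈ normalizer (B : Set G)) :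
    d ∈ normalizer ((⁅B, zpowers d⁆ : Subgroup G) : Set G) := by
  rw [← conjBy_eq_self_iff]
  show Subgroup.map _ ⁅B, zpowers d⁆ = _
  rw [map_commutator]
  refine congrArg₂ _ (conjBy_eq_self_iff.2 hd) ?_
  exact conjBy_eq_self_iff.2 (le_normalizer (mem_zpowers d))

/-- An element of prime order moving a faithful abelian group of prime exponent fixes a point. -/
theorem exists_fixed_of_move {t r : ℕ} [Fact r.Prime] {B R : Subgroup G} {d : G} (ht : t.Prime)
    (hBc : IsMulCommutative B) (hB : ∀ x ∈ B, x ^ t = 1) (hrt : r ≠ t)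
    (hd : (orderOf d).Prime) (hdt : orderOf d ≠ t) (hdr : orderOf d ≠ r)
    (hdB : d ∈ normalizer (B : Set G)) (hR : IsPGroup r R) (hBR : B ≤ normalizer (R : Set G))
    (hdR : d ∈ normalizer (R : Set G))
    (hfaith : ∀ x ∈ B, (∀ v ∈ R, Commute x v) → x = 1) (hmove : ∃ x ∈ B, ¬ Commute d x) :
    ∃ v ∈ R, v ≠ 1 ∧ Commute d v := by
  obtain ⟨x, hx, hxd⟩ := hmove
  have hle : ⁅B, zpowers d⁆ ≤ B := commutator_le.2 fun b hb c hc => by
    rw [commutatorElement_def]
    have := mul_mem hb (conj_mem_of_le_normalizer (zpowers_le.2 hdB) hc (inv_mem hb))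
    simpa [mul_assoc] using this
  have hA0 : ¬ r ∣ Nat.card (⁅B, zpowers d⁆ : Subgroup G) :=
    not_dvd_of_pow ht Fact.out hrt fun y hy => hB y (hle hy)
  have hcop : (Nat.card (zpowers d)).Coprime (Nat.card B) := by
    obtain ⟨k, hk⟩ := card_eq_pow ht hB
    rw [hk, Nat.card_zpowers]
    exact ((Nat.coprime_primes hd ht).2 hdt).pow_right k
  refine exists_fixed_of_semiregular hR hA0
    (fun h => hdr ((Nat.prime_dvd_prime_iff_eq Fact.out hd).1 h).symm)
    (hle.trans hBR) hdR (conj_mem_commutator hdB) ?_ ?_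
  · intro i hi y hy hc
    have hcd : Commute d y := eq_one_of_commute_pow hd rfl hi hc
    have hmem : y ∈ (B ⊓ centralizer (zpowers d : Set G)) ⊓ ⁅B, zpowers d⁆ :=
      ⟨⟨hle hy, mem_centralizer_iff.2 fun a ha => by
        obtain ⟨j, rfl⟩ := ha
        exact (hcd.zpow_left j).eq⟩, hy⟩
    rwa [centralizer_inf_commutator_eq_bot hBc (zpowers_le.2 hdB) hcop, mem_bot] at hmem
  · intro h
    refine hxd ?_
    have hy : ⁅x, d⁆ ∈ ⁅B, zpowers d⁆ := commutator_mem_commutator hx (mem_zpowers d)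
    have h1 := hfaith _ (hle hy) fun v hv => (mem_centralizer_iff.1 (h hy) v hv).symm
    exact (commutatorElement_eq_one_iff_mul_comm.1 h1).symm

end CfsgLib.PGroup.FourPrimes
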