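import Cfsg.Agent.Lib.PGroup.FourPrimes.Semiregular
import Cfsg.Agent.Lib.Coprime.FpfAction
import Cfsg.Agent.Lib.Coprime.Hall

/-!
# Planes: noncyclic groups of prime exponent
-/

set_option autoImplicit false
set_option linter.style.haveILetI false
set_option linter.unusedSectionVars false

namespace CfsgLib.PGroup.FourPrimes

open Subgroup CfsgLib.Coprime

universe u

variable {G : Type u} [Group G] [Finite G]

/-- No three pairwise commuting elements of three different prime orders. -/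
def NoTriple (G : Type u) [Group G] : Prop :=
  ∀ x y z : G, (orderOf x).Prime → (orderOf y).Prime → (orderOf z).Prime →
    orderOf x ≠ orderOf y → orderOf x ≠ orderOf z → orderOf y ≠ orderOf z →
    Commute x y → Commute x z → Commute y z → False

/-- A noncyclic abelian subgroup of prime exponent. -/
structure Plane (q : ℕ) (E : Subgroup G) : Prop where
  prime : q.Prime
  comm : IsMulCommutative E
  pow : ∀ x ∈ E, x ^ q = 1
  not_cyclic : ¬ IsCyclic E

theorem card_eq_pow {q : ℕ} (hq : q.Prime) {E : Subgroup G} (h : ∀ x ∈ E, x ^ q = 1) :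
    ∃ k, Nat.card E = q ^ k :=
  haveI : Fact q.Prime := ⟨hq⟩
  IsPGroup.exists_card_eq (p := q) fun x => ⟨1, Subtype.ext (by simpa using h x x.2)⟩

theorem not_dvd_of_pow {q r : ℕ} (hq : q.Prime) (hr : r.Prime) (hne : r ≠ q) {E : Subgroup G}
    (h : ∀ x ∈ E, x ^ q = 1) : ¬ r ∣ Nat.card E := by
  obtain ⟨k, hk⟩ := card_eq_pow hq h
  intro hd
  exact hne ((Nat.prime_dvd_prime_iff_eq hr hq).1 (hr.dvd_of_dvd_pow (hk ▸ hd)))

theorem Plane.commute {q : ℕ} {E : Subgroup G} (hE : Plane q E) {x y : G} (hx : x ∈ E) (hy : y ∈ E) :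
    Commute x y :=
  congrArg Subtype.val (hE.comm.is_comm.comm (⟨x, hx⟩ : E) ⟨y, hy⟩)

theorem Plane.orderOf_eq {q : ℕ} {E : Subgroup G} (hE : Plane q E) {x : G} (hx : x ∈ E) (h1 : x ≠ 1) :
    orderOf x = q :=
  haveI := Fact.mk hE.prime
  orderOf_eq_prime (hE.pow x hx) h1

/-- A group of prime exponent in which the centralizers of nontrivial elements lie in `W`. -/
theorem Plane.le_of_fixed {q : ℕ} {E R W : Subgroup G} (hE : Plane q E)
    (hER : E ≤ normalizer (R : Set G)) (hR : ¬ q ∣ Nat.card R)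
    (h : ∀ e ∈ E, orderOf e = q → ∀ v ∈ R, Commute e v → v ∈ W) : R ≤ W := by
  haveI := hE.comm
  obtain ⟨k, hk⟩ := card_eq_pow hE.prime hE.pow
  refine le_of_centralizers_le hE.not_cyclic hER
    (hk ▸ ((hE.prime.coprime_iff_not_dvd).2 hR).pow_left k) fun a ha ha1 v hv => ?_
  exact h a ha (hE.orderOf_eq ha ha1) v hv.1 (mem_centralizer_singleton_iff.1 hv.2).symm

/-- Some line of a plane fixes a nontrivial element. -/
theorem Plane.exists_fixed {q : ℕ} {E R : Subgroup G} (hE : Plane q E)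
    (hER : E ≤ normalizer (R : Set G)) (hR : ¬ q ∣ Nat.card R) (hR0 : R ≠ ⊥) :
    ∃ e ∈ E, orderOf e = q ∧ ∃ v ∈ R, v ≠ 1 ∧ Commute e v := by
  by_contra hne
  push Not at hne
  exact hR0 (le_bot_iff.1 (hE.le_of_fixed hER hR fun e he hq v hv hc => mem_bot.2
    (by_contra fun hv1 => hne e he hq v hv hv1 hc)))

theorem not_dvd_zpowers {q : ℕ} (hq : q.Prime) {b : G} (hb : (orderOf b).Prime) (hne : orderOf b ≠ q) :
    ¬ q ∣ Nat.card (zpowers b) := by
  rw [Nat.card_zpowers]
  exact fun h => hne ((Nat.prime_dvd_prime_iff_eq hq hb).1 h).symm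

theorem zpowers_ne_bot_of_prime {b : G} (hb : (orderOf b).Prime) : zpowers b ≠ ⊥ := fun h => by
  rw [zpowers_eq_bot] at h
  rw [h, orderOf_one] at hb
  exact Nat.not_prime_one hb

/-- An element commuting with a nontrivial power of `b`, of prime order, commutes with `b`. -/
theorem commute_of_mem_zpowers {b v e : G} (hb : (orderOf b).Prime) (hv : v ∈ zpowers b) (hv1 : v ≠ 1)
    (hc : Commute e v) : Commute e b := by
  haveI : Fact (orderOf b).Prime := ⟨hb⟩
  have hbv : b ∈ zpowers v := by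
    obtain ⟨j, rfl⟩ := hv
    have h : zpowers (b ^ j) = zpowers b := eq_of_le_of_card_ge
      (zpowers_le.2 (zpow_mem (mem_zpowers b) j)) (by
        rw [Nat.card_zpowers, Nat.card_zpowers, orderOf_eq_prime (p := orderOf b) (by
          rw [← zpow_natCast, ← zpow_mul, mul_comm, zpow_mul, zpow_natCast, pow_orderOf_eq_one,
            one_zpow]) hv1])
    exact h ▸ mem_zpowers b
  obtain ⟨i, rfl⟩ := hbv
  exact hc.zpow_right i

/-- Some line of a plane centralizes a normalized subgroup of prime order. -/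
theorem Plane.line {q : ℕ} {E : Subgroup G} (hE : Plane q E) {b : G} (hb : (orderOf b).Prime)
    (hne : orderOf b ≠ q) (hEb : E ≤ normalizer (zpowers b : Set G)) :
    ∃ f ∈ E, orderOf f = q ∧ Commute f b := by
  obtain ⟨f, hf, hfo, v, hv, hv1, hc⟩ :=
    hE.exists_fixed hEb (not_dvd_zpowers hE.prime hb hne) (zpowers_ne_bot_of_prime hb)
  exact ⟨f, hf, hfo, commute_of_mem_zpowers hb hv hv1 hc⟩

/-- The powers of an element of prime order. -/
theorem eq_one_of_commute_pow {e a : G} {q i : ℕ} (hq : q.Prime) (he : orderOf e = q)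
    (hi : e ^ i ≠ 1) (hc : Commute (e ^ i) a) : Commute e a :=
  (commute_of_mem_zpowers (he ▸ hq) (npow_mem_zpowers e i) hi hc.symm).symm

/-- A prime-order element moving a subgroup of prime order. -/
theorem dvd_pred_of_move {e b : G} (he : (orderOf e).Prime) (hb : (orderOf b).Prime)
    (heb : e ∈ normalizer (zpowers b : Set G)) (hne : ¬ Commute e b) :
    orderOf e ∣ orderOf b - 1 := by
  have hfpf : IsFpfOn (zpowers e) (zpowers b) := by
    intro a ha ha1
    refine (eq_bot_iff_forall _).2 fun v hv => by_contra fun hv1 => hne ?_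
    have hc : Commute v a := mem_centralizer_singleton_iff.1 hv.2
    exact (commute_of_mem_zpowers he ha ha1 (commute_of_mem_zpowers hb hv.1 hv1 hc.symm).symm).symm
  have h := hfpf.card_mod (zpowers_le.2 heb)
  rw [Nat.card_zpowers, Nat.card_zpowers] at h
  exact (Nat.modEq_iff_dvd' hb.one_lt.le).1 h.symm

theorem plane_or_zpowers {t : ℕ} (ht : t.Prime) {B : Subgroup G} (hB : B ≠ ⊥)
    (hc : IsMulCommutative B) (hpow : ∀ x ∈ B, x ^ t = 1) :
    Plane t B ∨ ∃ b, orderOf b = t ∧ B = zpowers b := by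
  by_cases hcy : IsCyclic B
  · obtain ⟨⟨g, hg⟩, hgen⟩ := hcy.exists_generator
    refine Or.inr ⟨g, ?_, le_antisymm (fun x hx => ?_) (zpowers_le.2 hg)⟩
    · haveI := Fact.mk ht
      refine orderOf_eq_prime (hpow g hg) fun h1 => hB ((eq_bot_iff_forall _).2 fun x hx => ?_)
      obtain ⟨j, hj⟩ := mem_zpowers_iff.1 (hgen ⟨x, hx⟩)
      simpa [h1] using (congrArg Subtype.val hj).symm
    · obtain ⟨j, hj⟩ := mem_zpowers_iff.1 (hgen ⟨x, hx⟩)
      exact mem_zpowers_iff.2 ⟨j, by simpa using congrArg Subtype.val hj⟩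
  · exact Or.inl ⟨ht, hc, hpow, hcy⟩

/-- A noncyclic pair of commuting elements of order `q` spans a plane. -/
theorem plane_of_pair {q : ℕ} (hq : q.Prime) {x y : G} (hx : x ^ q = 1) (hy : y ^ q = 1)
    (hx1 : x ≠ 1) (hc : Commute x y) (hyx : y ∉ zpowers x) : Plane q (closure {x, y}) := by
  have hcomm : ∀ a ∈ ({x, y} : Set G), ∀ b ∈ ({x, y} : Set G), a * b = b * a := by
    rintro a (rfl | rfl) b (rfl | rfl)
    exacts [rfl, hc.eq, hc.eq.symm, rfl]
  have hC : IsMulCommutative (closure ({x, y} : Set G)) := isMulCommutative_closure hcomm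
  have hpow : ∀ a ∈ closure ({x, y} : Set G), a ^ q = 1 := by
    intro a ha
    induction ha using closure_induction with
    | mem z hz =>
      rcases hz with rfl | rfl
      exacts [hx, hy]
    | one => exact one_pow q
    | mul z w hz hw h1 h2 =>
      rw [(show Commute z w from congrArg Subtype.val (hC.is_comm.comm (⟨z, hz⟩ : closure ({x, y} : Set G))
        ⟨w, hw⟩)).mul_pow, h1, h2, mul_one]
    | inv z _ h => rw [inv_pow, h, inv_one]
  rcases plane_or_zpowers hq (fun h => hx1 (mem_bot.1 (h ▸ subset_closure (Set.mem_insert x {y})))) hC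
    hpow with h | ⟨b, hb, hB⟩
  · exact h
  · haveI := Fact.mk hq
    refine absurd ?_ hyx
    have hxb : zpowers x = zpowers b := eq_of_le_of_card_ge
      (zpowers_le.2 (hB ▸ subset_closure (Set.mem_insert x {y})))
      (by rw [Nat.card_zpowers, Nat.card_zpowers, hb, orderOf_eq_prime hx hx1])
    exact hxb ▸ hB ▸ subset_closure (Set.mem_insert_of_mem x (Set.mem_singleton y))

/-- In a cyclic subgroup the elements killed by the prime `q` are powers of one of order `q`. -/
theorem mem_zpowers_of_cyclic {q : ℕ} (hq : q.Prime) {Q : Subgroup G} (hQ : IsCyclic Q) {b h : G}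
    (hb : b ∈ Q) (hbo : orderOf b = q) (hh : h ∈ Q) (hhq : h ^ q = 1) : h ∈ zpowers b := by
  by_contra hne
  haveI := hQ
  haveI : IsMulCommutative Q := inferInstance
  refine (plane_of_pair hq (hbo ▸ pow_orderOf_eq_one b) hhq ?_
    (congrArg Subtype.val (mul_comm' (⟨b, hb⟩ : Q) ⟨h, hh⟩)) hne).not_cyclic
    (isCyclic_of_le ((closure_le Q).2 (by rintro v (rfl | rfl) <;> assumption)))
  intro h1
  replace h1 : b = 1 := h1
  rw [h1, orderOf_one] at hbo
  exact hq.ne_one hbo.symm

/-- A `q`-subgroup has a plane unless its elements of order `q` generate one subgroup. -/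
theorem exists_plane_or_unique {q : ℕ} [hq : Fact q.Prime] {P : Subgroup G} (hP : IsPGroup q P)
    (hd : q ∣ Nat.card P) : (∃ E ≤ P, Plane q E) ∨
      ∃ a ∈ P, orderOf a = q ∧ ∀ x ∈ P, x ^ q = 1 → x ∈ zpowers a := by
  haveI : Nontrivial P := by
    rw [← Finite.one_lt_card_iff_nontrivial]
    exact lt_of_lt_of_le hq.out.one_lt (Nat.le_of_dvd Nat.card_pos hd)
  haveI := hP.center_nontrivial
  obtain ⟨k, hk⟩ := (hP.to_subgroup (center P)).exists_card_eq
  have hk0 : k ≠ 0 := by
    rintro rfl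
    have := Finite.one_lt_card (α := center P)
    rw [hk, pow_zero] at this
    omega
  obtain ⟨z, hz⟩ := exists_prime_orderOf_dvd_card' (G := center P) q (hk ▸ dvd_pow_self q hk0)
  have hzo : orderOf ((z : P) : G) = q := by rw [orderOf_coe, orderOf_coe, hz]
  by_cases h : ∀ x ∈ P, x ^ q = 1 → x ∈ zpowers ((z : P) : G)
  · exact Or.inr ⟨_, (z : P).2, hzo, h⟩
  push Not at h
  obtain ⟨x, hx, hxq, hxz⟩ := h
  have hc : Commute ((z : P) : G) x :=
    (congrArg Subtype.val (mem_center_iff.1 z.2 ⟨x, hx⟩)).symm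
  refine Or.inl ⟨_, (closure_le P).2 ?_, plane_of_pair hq.out (hzo ▸ pow_orderOf_eq_one _) hxq ?_ hc hxz⟩
  · rintro w (rfl | rfl)
    exacts [(z : P).2, hx]
  · intro h1
    rw [h1, orderOf_one] at hzo
    exact hq.out.ne_one hzo.symm

/-- A minimal nontrivial subgroup normalized by `K` of a solvable subgroup. -/
theorem exists_minimal_invariant {X K : Subgroup G} (hs : Group.IsSolvable X) (hX : X ≠ ⊥)
    (hK : K ≤ normalizer (X : Set G)) :
    ∃ (B : Subgroup G) (t : ℕ), t.Prime ∧ B ≤ X ∧ B ≠ ⊥ ∧ K ≤ normalizer (B : Set G) ∧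
      IsMulCommutative B ∧ (∀ x ∈ B, x ^ t = 1) ∧ t ∣ Nat.card X ∧
      ∀ C ≤ B, C ≠ ⊥ → K ≤ normalizer (C : Set G) → C = B := by
  obtain ⟨B, hBX, ⟨hB0, hBK⟩, hmin⟩ := exists_minimal_le_of_wellFoundedLT (α := Subgroup G)
    (fun B => B ≠ ⊥ ∧ K ≤ normalizer (B : Set G)) X ⟨hX, hK⟩
  have hmin' : ∀ C ≤ B, C ≠ ⊥ → K ≤ normalizer (C : Set G) → C = B := fun C h h0 hC =>
    le_antisymm h (hmin ⟨h0, hC⟩ h)
  haveI := hs
  haveI : Group.IsSolvable B := Group.isSolvable_of_isSolvable_injective (inclusion_injective hBX)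
  haveI : Nontrivial B := (nontrivial_iff_ne_bot B).2 hB0
  have hcomm : ⁅B, B⁆ = ⊥ := by
    by_contra h0
    have hle : ⁅B, B⁆ ≤ B := commutator_le.2 fun a ha b hb => by
      rw [commutatorElement_def]
      exact mul_mem (mul_mem (mul_mem ha hb) (inv_mem ha)) (inv_mem hb)
    have hn : K ≤ normalizer ((⁅B, B⁆ : Subgroup G) : Set G) := fun k hk => by
      rw [← conjBy_eq_self_iff]
      have h1 : conjBy k B = B := conjBy_eq_self_iff.2 (hBK hk)
      show Subgroup.map _ ⁅B, B⁆ = _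
      rw [map_commutator]
      exact congrArg₂ _ h1 h1
    have h := hmin' _ hle h0 hn
    have hlt := Group.IsSolvable.commutator_lt_top_of_nontrivial B
    refine hlt.ne (map_injective B.subtype_injective ?_)
    rw [commutator_def, map_commutator, ← MonoidHom.range_eq_map, range_subtype, h]
  have hc : IsMulCommutative B := isMulCommutative_iff.2 fun a b => Subtype.ext (by
    have := (commutatorElement_eq_one_iff_mul_comm (g₁ := (a : G)) (g₂ := (b : G))).1
      (mem_bot.1 (hcomm ▸ commutator_mem_commutator a.2 b.2))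
    exact this)
  obtain ⟨t, ht, htd⟩ := Nat.exists_prime_and_dvd
    (fun h => hB0 (Subgroup.card_eq_one.1 h) : Nat.card B ≠ 1)
  haveI := Fact.mk ht
  obtain ⟨z, hz⟩ := exists_prime_orderOf_dvd_card' t htd
  let Ω : Subgroup G :=
  { carrier := {x | x ∈ B ∧ x ^ t = 1}
    one_mem' := ⟨one_mem B, one_pow t⟩
    mul_mem' := fun {a b} ha hb => ⟨mul_mem ha.1 hb.1, by
      rw [(show Commute a b from congrArg Subtype.val (hc.is_comm.comm (⟨a, ha.1⟩ : B) ⟨b, hb.1⟩)).mul_pow,
        ha.2, hb.2, mul_one]⟩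
    inv_mem' := fun {a} ha => ⟨inv_mem ha.1, by rw [inv_pow, ha.2, inv_one]⟩ }
  have hΩ : Ω = B := by
    refine hmin' Ω (fun x hx => hx.1) ?_ fun k hk => mem_normalizer_iff.2 fun x => ?_
    · intro h
      have h1 : (z : G) = 1 := mem_bot.1 (h ▸ (show (z : G) ∈ Ω from
        ⟨z.2, by rw [← SubgroupClass.coe_pow, ← hz, pow_orderOf_eq_one]; rfl⟩))
      rw [show z = 1 from Subtype.ext h1, orderOf_one] at hz
      exact ht.ne_one hz.symm
    · have h1 := mem_normalizer_iff.1 (hBK hk) x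
      show (x ∈ B ∧ x ^ t = 1) ↔ (k * x * k⁻¹ ∈ B ∧ (k * x * k⁻¹) ^ t = 1)
      rw [← h1, conj_pow, conj_eq_one_iff]
  exact ⟨B, t, ht, hBX, hB0, hBK, hc, fun x hx => (hΩ.symm ▸ hx : x ∈ Ω).2,
    htd.trans (card_dvd_of_le hBX), hmin'⟩

end CfsgLib.PGroup.FourPrimes
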