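import Cfsg.Agent.Lib.PGroup.FourPrimes.Basic
import Cfsg.Agent.Lib.CFun.OddUniqueness

/-!
# An element of order `p` central modulo the socle of the centre
-/

set_option autoImplicit false
set_option linter.style.haveILetI false

namespace CfsgLib.PGroup.FourPrimes

open Subgroup CfsgLib.Coprime

universe u

variable {G : Type u} [Group G] [Finite G]

/-- A normalized subgroup of order `p` of a `p`-group is central. -/
theorem line_central {p : ℕ} [hp : Fact p.Prime] {Q : Subgroup G} (hQ : IsPGroup p Q) {b : G}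
    (hb : b ∈ Q) (hbo : orderOf b = p) (hQb : Q ≤ normalizer (zpowers b : Set G)) :
    ∀ y ∈ Q, Commute b y := by
  have hle : zpowers b ≤ Q := zpowers_le.2 hb
  haveI : ((zpowers b).subgroupOf Q).Normal := (normal_subgroupOf_iff_le_normalizer hle).2 hQb
  haveI := hQ.isNilpotent
  have h0 : (zpowers b).subgroupOf Q ≠ ⊥ := fun h => by
    rw [subgroupOf_eq_bot, disjoint_iff, inf_eq_left.2 hle] at h
    exact zpowers_ne_bot_of_prime (hbo ▸ hp.out) h
  obtain ⟨w, hw, hw1⟩ := ((zpowers b).subgroupOf Q ⊓ center Q).bot_or_exists_ne_one.resolve_left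
    (nilpotent_inf_center_ne_bot _ h0)
  intro y hy
  have hc : Commute y (w : G) := congrArg Subtype.val (mem_center_iff.1 hw.2 ⟨y, hy⟩)
  exact (commute_of_mem_zpowers (hbo ▸ hp.out) (mem_subgroupOf.1 hw.1)
    (fun h => hw1 (Subtype.ext h)) hc).symm

/-- In a noncyclic odd `p`-group whose central elements of order `p` lie in `⟨a⟩`, some element of
order `p` outside `⟨a⟩` is central modulo `⟨a⟩` but not central; and `a` is central. -/
theorem exists_central_mod {p : ℕ} [hp : Fact p.Prime] (hp2 : p ≠ 2) {Q : Subgroup G}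
    (hQ : IsPGroup p Q) (hnc : ¬ IsCyclic Q) {a : G} (ha : a ∈ Q) (hao : orderOf a = p)
    (hΩ : ∀ x ∈ Q, x ^ p = 1 → (∀ y ∈ Q, Commute x y) → x ∈ zpowers a) :
    (∀ y ∈ Q, Commute a y) ∧ ∃ z ∈ Q, orderOf z = p ∧ z ∉ zpowers a ∧
      (∀ g ∈ Q, g * z * g⁻¹ * z⁻¹ ∈ zpowers a) ∧ ∃ g ∈ Q, ¬ Commute g z := by
  obtain ⟨E, hEQ, hQE, hEe, hE2⟩ := CfsgLib.CFun.exists_normal_elementary_two hp2 hQ hnc
  have hEpow : ∀ x ∈ E, x ^ p = 1 := hEe.2
  haveI := hQ.isNilpotent
  haveI : (E.subgroupOf Q).Normal := (normal_subgroupOf_iff_le_normalizer hEQ).2 hQE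
  have hE0 : E.subgroupOf Q ≠ ⊥ := fun h => by
    rw [subgroupOf_eq_bot, disjoint_iff, inf_eq_left.2 hEQ] at h
    rw [h, card_bot] at hE2
    exact absurd hE2.symm (Nat.one_lt_pow (by norm_num) hp.out.one_lt).ne'
  obtain ⟨w, hw, hw1⟩ :=
    (E.subgroupOf Q ⊓ center Q).bot_or_exists_ne_one.resolve_left (nilpotent_inf_center_ne_bot _ hE0)
  have hwc : ∀ y ∈ Q, Commute (w : G) y := fun y hy =>
    (congrArg Subtype.val (mem_center_iff.1 hw.2 ⟨y, hy⟩)).symm
  have hwE : (w : G) ∈ E := mem_subgroupOf.1 hw.1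
  have hwa : (w : G) ∈ zpowers a := hΩ _ w.2 (hEpow _ hwE) hwc
  have hac : ∀ y ∈ Q, Commute a y := fun y hy =>
    (commute_of_mem_zpowers (hao ▸ hp.out) hwa (fun h => hw1 (Subtype.ext h)) (hwc y hy).symm).symm
  have haE : a ∈ E := by
    have h1 : zpowers (w : G) = zpowers a := eq_of_le_of_card_ge (zpowers_le.2 hwa) (by
      rw [Nat.card_zpowers, Nat.card_zpowers, hao,
        orderOf_eq_prime (hEpow _ hwE) (fun h => hw1 (Subtype.ext h))])
    exact zpowers_le.2 hwE (h1 ▸ mem_zpowers a)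
  obtain ⟨z, hz, hza⟩ : ∃ z ∈ E, z ∉ zpowers a := by
    by_contra h
    push Not at h
    have := card_dvd_of_le (show E ≤ zpowers a from h)
    rw [hE2, Nat.card_zpowers, hao] at this
    have := Nat.le_of_dvd hp.out.pos this
    nlinarith [hp.out.two_le]
  have hz1 : z ≠ 1 := fun h => hza (h ▸ one_mem _)
  have hzo : orderOf z = p := orderOf_eq_prime (hEpow z hz) hz1
  haveI := hEe.1
  have hEc : ∀ x ∈ E, ∀ y ∈ E, Commute x y := fun x hx y hy =>
    congrArg Subtype.val (mul_comm' (⟨x, hx⟩ : E) ⟨y, hy⟩)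
  have hEsup : ∀ x ∈ E, ∃ c ∈ zpowers a, ∃ j : ℕ, x = c * z ^ j := by
    intro x hx
    have hP := plane_of_pair hp.out (hEpow a haE) (hEpow z hz)
      (fun h => by rw [h, orderOf_one] at hao; exact hp.out.ne_one hao.symm) (hEc a haE z hz) hza
    obtain ⟨k, hk⟩ := card_eq_pow hp.out hP.pow
    have hk2 : 2 ≤ k := by
      by_contra h
      refine hP.not_cyclic ?_
      rcases (by omega : k = 0 ∨ k = 1) with rfl | rfl
      · exact @isCyclic_of_subsingleton _ _ (Finite.card_le_one_iff_subsingleton.1 (by rw [hk, pow_zero]))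
      · exact isCyclic_of_prime_card (p := p) (by rw [hk, pow_one])
    have heq : closure ({a, z} : Set G) = E := eq_of_le_of_card_ge
      ((closure_le E).2 (by rintro v (rfl | rfl) <;> assumption))
      (by rw [hE2, hk]; exact Nat.pow_le_pow_right hp.out.pos hk2)
    have hle : closure ({a, z} : Set G) ≤ zpowers a ⊔ zpowers z := (closure_le _).2 (by
      rintro v (rfl | rfl)
      exacts [mem_sup_left (mem_zpowers _), mem_sup_right (mem_zpowers _)])
    have hn : zpowers z ≤ normalizer (zpowers a : Set G) :=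
      zpowers_le.2 (centralizer_le_normalizer _ (mem_centralizer_iff.2 fun v hv => by
        obtain ⟨i, rfl⟩ := hv
        exact ((hEc a haE z hz).zpow_left i).eq))
    obtain ⟨c, hc, y, hy, hcy⟩ := mem_sup_exists hn (hle (heq.symm ▸ hx))
    obtain ⟨j, rfl⟩ := (mem_powers_iff_mem_zpowers.2 hy)
    exact ⟨c, hc, j, hcy.symm⟩
  have hmod : ∀ g ∈ Q, g * z * g⁻¹ * z⁻¹ ∈ zpowers a := by
    intro g hg
    obtain ⟨c, hc, j, hj⟩ := hEsup _ ((mem_normalizer_iff.1 (hQE hg) z).1 hz)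
    have hconj : ∀ x ∈ zpowers a, g * x * g⁻¹ = x := fun x hx => by
      obtain ⟨i, rfl⟩ := hx
      rw [((hac g hg).zpow_left i).symm.eq, mul_inv_cancel_right]
    have hiter : ∀ n : ℕ, ∃ c ∈ zpowers a, g ^ n * z * (g ^ n)⁻¹ = c * z ^ (j ^ n) := by
      intro n
      induction n with
      | zero => exact ⟨1, one_mem _, by simp⟩
      | succ n ih =>
        obtain ⟨d, hd, he⟩ := ih
        refine ⟨d * c ^ (j ^ n), mul_mem hd (pow_mem hc _), ?_⟩
        have hcz : Commute c (z ^ j) := by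
          obtain ⟨i, rfl⟩ := hc
          exact ((hEc a haE z hz).zpow_left i).pow_right j
        calc g ^ (n + 1) * z * (g ^ (n + 1))⁻¹
            = g * (g ^ n * z * (g ^ n)⁻¹) * g⁻¹ := by rw [pow_succ']; group
          _ = (g * d * g⁻¹) * (g * z * g⁻¹) ^ (j ^ n) := by rw [he, conj_pow]; group
          _ = d * c ^ (j ^ n) * z ^ (j ^ (n + 1)) := by
            rw [hconj d hd, hj, hcz.mul_pow, ← pow_mul, pow_succ' j n, mul_assoc]
    obtain ⟨k, hk⟩ := hQ ⟨g, hg⟩
    obtain ⟨d, hd, he⟩ := hiter (p ^ k)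
    rw [show g ^ (p ^ k) = 1 from congrArg Subtype.val hk, one_mul, inv_one, mul_one] at he
    have hzmod : ∀ m : ℤ, z ^ m ∈ zpowers a → (p : ℤ) ∣ m := fun m hm => by
      by_contra hm'
      have hne : z ^ m ≠ 1 := fun h => hm' (hzo ▸ orderOf_dvd_iff_zpow_eq_one.2 h)
      refine hza ?_
      have h1 : zpowers (z ^ m) = zpowers z := eq_of_le_of_card_ge
        (zpowers_le.2 (zpow_mem (mem_zpowers z) m)) (by
          rw [Nat.card_zpowers, Nat.card_zpowers, hzo, orderOf_eq_prime (hEpow _ (zpow_mem hz m)) hne])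
      exact zpowers_le.2 hm (h1 ▸ mem_zpowers z)
    have h1 : (p : ℤ) ∣ ((j ^ (p ^ k) : ℕ) : ℤ) - 1 := by
      refine hzmod _ ?_
      rw [zpow_sub_one, zpow_natCast, show z ^ (j ^ p ^ k) = d⁻¹ * z by
        rw [eq_inv_mul_iff_mul_eq]; exact he.symm, mul_inv_cancel_right]
      exact inv_mem hd
    have h2 : (p : ℤ) ∣ (j : ℤ) - 1 := by
      rw [← ZMod.intCast_zmod_eq_zero_iff_dvd] at h1 ⊢
      push_cast at h1 ⊢
      rwa [ZMod.pow_card_pow] at h1
    obtain ⟨m, hm⟩ := h2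
    have h3 : z ^ j = z := by
      calc z ^ j = z ^ ((p : ℤ) * m + 1) := by rw [← hm, sub_add_cancel, zpow_natCast]
        _ = z := by rw [zpow_add, zpow_mul, zpow_natCast, hEpow z hz, one_zpow, one_mul, zpow_one]
    rw [hj, h3, mul_inv_cancel_right]
    exact hc
  refine ⟨hac, z, hEQ hz, hzo, hza, hmod, ?_⟩
  by_contra h
  push Not at h
  exact hza (hΩ z (hEQ hz) (hEpow z hz) fun y hy => (h y hy).symm)

end CfsgLib.PGroup.FourPrimes
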