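import Cfsg.Agent.Lib.PGroup.FourPrimes.Tools

/-!
# One normal subgroup and a three-prime complement
-/

set_option autoImplicit false
set_option linter.style.haveILetI false
set_option linter.unusedSectionVars false

namespace CfsgLib.PGroup.FourPrimes

open Subgroup CfsgLib.Coprime

universe u

variable {G : Type u} [Group G] [Finite G]

theorem Plane.map_conj {q : ℕ} {E : Subgroup G} (hE : Plane q E) (g : G) : Plane q (conjBy g E) := by
  let e := E.equivMapOfInjective (MulAut.conj g).toMonoidHom (MulAut.conj g).injective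
  refine ⟨hE.prime, ?_, ?_, fun hc => hE.not_cyclic (e.isCyclic.2 hc)⟩
  · haveI := hE.comm
    exact isMulCommutative_iff.2 fun a b => e.symm.injective (by simp [mul_comm'])
  · rintro _ ⟨x, hx, rfl⟩
    show (MulAut.conj g x) ^ q = 1
    rw [← map_pow, hE.pow x hx, map_one]

/-- A plane for a prime of `π` may be moved into a Hall `π`-subgroup. -/
theorem Plane.exists_in_hall {π : Set ℕ} {H L : Subgroup G} (h : IsHallIn π H L)
    (hL : Group.IsSolvable L) {q : ℕ} (hq : q ∈ π) {E : Subgroup G} (hEL : E ≤ L) (hE : Plane q E) :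
    ∃ E' ≤ H, Plane q E' := by
  obtain ⟨k, hk⟩ := card_eq_pow hE.prime hE.pow
  obtain ⟨x, -, hx⟩ := h.exists_conj_le hL hEL (hk ▸
    (isPiNum_singleton_of_pow hE.prime).mono (Set.singleton_subset_iff.2 hq))
  exact ⟨_, hx, hE.map_conj x⟩

/-- A faithful `{p, q, s}`-group on a normal `r`-subgroup, with planes for its three primes. -/
structure OneModule (r p q s : ℕ) (R H : Subgroup G) : Prop where
  noTriple : NoTriple G
  solvable : Group.IsSolvable G
  rp : r.Prime
  pp : p.Prime
  qp : q.Prime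
  sp : s.Prime
  rp' : r ≠ p
  rq : r ≠ q
  rs : r ≠ s
  pq : p ≠ q
  ps : p ≠ s
  qs : q ≠ s
  Rn : R.Normal
  Rgrp : IsPGroup r R
  R0 : R ≠ ⊥
  Hpi : IsPiNum {p, q, s} (Nat.card H)
  faithful : H ⊓ centralizer (R : Set G) = ⊥
  planeP : ∃ E ≤ H, Plane p E
  planeQ : ∃ E ≤ H, Plane q E
  planeS : ∃ E ≤ H, Plane s E

variable {r p q s : ℕ} {R H : Subgroup G}

theorem OneModule.swapQS (D : OneModule r p q s R H) : OneModule r p s q R H :=
  ⟨D.noTriple, D.solvable, D.rp, D.pp, D.sp, D.qp, D.rp', D.rs, D.rq, D.ps, D.pq, D.qs.symm,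
    D.Rn, D.Rgrp, D.R0, by
      have h := D.Hpi; rwa [Set.pair_comm] at h, D.faithful, D.planeP, D.planeS, D.planeQ⟩

theorem OneModule.swapPQ (D : OneModule r p q s R H) : OneModule r q p s R H :=
  ⟨D.noTriple, D.solvable, D.rp, D.qp, D.pp, D.sp, D.rq, D.rp', D.rs, D.pq.symm, D.qs, D.ps,
    D.Rn, D.Rgrp, D.R0, by
      have h := D.Hpi; rwa [Set.insert_comm] at h, D.faithful, D.planeQ, D.planeP, D.planeS⟩

theorem OneModule.solvableSub (D : OneModule r p q s R H) (X : Subgroup G) : Group.IsSolvable X :=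
  haveI := D.solvable
  inferInstance

theorem OneModule.normalizesR (D : OneModule r p q s R H) (X : Subgroup G) :
    X ≤ normalizer (R : Set G) := by
  haveI := D.Rn
  rw [normalizer_eq_top]
  exact le_top

theorem OneModule.order_mem (D : OneModule r p q s R H) {v : G} (hv : v ∈ R) (hv1 : v ≠ 1) :
    ∃ w ∈ R, w ≠ 1 ∧ orderOf w = r ∧ w ∈ zpowers v := by
  haveI := Fact.mk D.rp
  obtain ⟨k, hk⟩ := (IsPGroup.iff_orderOf.1 D.Rgrp) ⟨v, hv⟩
  rw [Subgroup.orderOf_mk] at hk
  rcases k with _ | k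
  · exact absurd (orderOf_eq_one_iff.1 (hk.trans (pow_zero r))) hv1
  · have ho : orderOf (v ^ r ^ k) = r := by
      rw [orderOf_pow, hk, Nat.gcd_eq_right (pow_dvd_pow r (Nat.le_succ k)), pow_succ',
        Nat.mul_div_cancel _ (pow_pos D.rp.pos k)]
    refine ⟨v ^ r ^ k, pow_mem hv _, fun h => ?_, ho, pow_mem (mem_zpowers v) _⟩
    rw [h, orderOf_one] at ho
    exact D.rp.ne_one ho.symm

/-- An element commuting with `v` commutes with its powers. -/
theorem commute_mem_zpowers {x v w : G} (hw : w ∈ zpowers v) (h : Commute x v) : Commute x w := by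
  obtain ⟨i, rfl⟩ := hw; exact h.zpow_right i

/-- Two commuting prime-order elements do not both fix the same nontrivial element of `R`. -/
theorem OneModule.not_pair (D : OneModule r p q s R H) {x y v : G} (hx : (orderOf x).Prime)
    (hy : (orderOf y).Prime) (hxr : orderOf x ≠ r) (hyr : orderOf y ≠ r) (hxy : orderOf x ≠ orderOf y)
    (hv : v ∈ R) (hv1 : v ≠ 1) (hc : Commute x y) (hxv : Commute x v) (hyv : Commute y v) : False := by
  obtain ⟨w, -, -, hwo, hwv⟩ := D.order_mem hv hv1
  exact D.noTriple x y w hx hy (hwo ▸ D.rp) hxy (hwo ▸ hxr) (hwo ▸ hyr) hc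
    (commute_mem_zpowers hwv hxv) (commute_mem_zpowers hwv hyv)

theorem OneModule.eq_one_of_fixes (D : OneModule r p q s R H) {x : G} (hx : x ∈ H)
    (h : ∀ v ∈ R, Commute x v) : x = 1 := by
  rw [← mem_bot, ← D.faithful]
  exact ⟨hx, mem_centralizer_iff.2 fun v hv => (h v hv).symm.eq⟩

end CfsgLib.PGroup.FourPrimes
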