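import Cfsg.Agent.Lib.PGroup.FourPrimes.OneModule
import Cfsg.Agent.Lib.Coprime.Solvable

/-!
# One module: the complement normalizes a plane
-/

set_option autoImplicit false
set_option linter.style.haveILetI false
set_option linter.unusedSectionVars false

namespace CfsgLib.PGroup.FourPrimes

open Subgroup CfsgLib.Coprime

universe u

variable {G : Type u} [Group G] [Finite G] {r p q s : ℕ} {R H : Subgroup G}

/-- Of two commuting elements of orders `q`, `s`, one centralizes the plane; one-sided step. -/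
theorem OneModule.side (D : OneModule r p q s R H) {A : Subgroup G} (hAH : A ≤ H) (hA : Plane p A)
    (hHA : H ≤ normalizer (A : Set G)) {c d : G} (hc : c ∈ H) (hd : d ∈ H) (hco : orderOf c = q)
    (hdo : orderOf d = s) (hcd : Commute c d) {x : G} (hx : x ∈ A) (hx1 : x ≠ 1) (hxc : Commute c x)
    (hmove : ∃ a ∈ A, ¬ Commute c a) : False := by
  haveI := Fact.mk D.rp
  obtain ⟨v, hv, hv1, hcv⟩ := exists_fixed_of_move (r := r) (B := A) (R := R) (d := c) D.pp hA.comm
    hA.pow D.rp' (hco ▸ D.qp) (hco ▸ D.pq.symm) (hco ▸ D.rq.symm) (hHA hc) D.Rgrp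
    (D.normalizesR A) (D.normalizesR ⊤ (mem_top c))
    (fun a ha h => D.eq_one_of_fixes (hAH ha) h) hmove
  set A₂ := A ⊓ centralizer (zpowers c : Set G) with hA₂
  set R₁ := R ⊓ centralizer (zpowers c : Set G) with hR₁
  have hcl : ∀ {w : G}, w ∈ centralizer (zpowers c : Set G) → Commute c w := fun {w} hw =>
    mem_centralizer_iff.1 hw c (mem_zpowers c)
  have hcr : ∀ {w : G}, Commute c w → w ∈ centralizer (zpowers c : Set G) := fun {w} hw =>
    mem_centralizer_iff.2 fun z hz => by obtain ⟨i, rfl⟩ := hz; exact (hw.zpow_left i).eq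
  have hdc : d ∈ centralizer (zpowers c : Set G) := hcr hcd
  have hxA : x ∈ A₂ := ⟨hx, hcr hxc⟩
  have hvR : v ∈ R₁ := ⟨hv, hcr hcv⟩
  have hxo := hA.orderOf_eq hx hx1
  have hcn : centralizer (zpowers c : Set G) ≤
      normalizer ((centralizer (zpowers c : Set G) : Subgroup G) : Set G) := le_normalizer
  by_cases htriv : A₂ ≤ centralizer (R₁ : Set G)
  · exact D.not_pair (x := c) (y := x) (hco ▸ D.qp) (hxo ▸ D.pp) (hco ▸ D.rq.symm) (hxo ▸ D.rp'.symm)
      (by rw [hco, hxo]; exact D.pq.symm) hv hv1 hxc hcv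
      (mem_centralizer_iff.1 (htriv hxA) v hvR).symm
  · obtain ⟨w, hw, hw1, hdw⟩ := exists_fixed_of_semiregular (r := r) (A := A₂) (R := R₁) (b := d)
      (D.Rgrp.to_le inf_le_left) (not_dvd_of_pow D.pp D.rp D.rp' fun a ha => hA.pow a ha.1)
      (fun h => D.rs ((Nat.prime_dvd_prime_iff_eq D.rp D.sp).1 (hdo ▸ h)))
      (inf_le_normalizer (D.normalizesR _) (inf_le_right.trans hcn))
      ((inf_le_normalizer (A := centralizer (zpowers c : Set G)) (D.normalizesR _) hcn) hdc)
      ((inf_le_normalizer (A := H ⊓ centralizer (zpowers c : Set G)) (inf_le_left.trans hHA)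
        (inf_le_right.trans hcn)) ⟨hd, hdc⟩)
      (fun i hi a ha hc' => by
        by_contra ha1
        have hao := hA.orderOf_eq ha.1 ha1
        exact D.noTriple c d a (hco ▸ D.qp) (hdo ▸ D.sp) (hao ▸ D.pp) (by rw [hco, hdo]; exact D.qs)
          (by rw [hco, hao]; exact D.pq.symm) (by rw [hdo, hao]; exact D.ps.symm) hcd (hcl ha.2)
          (eq_one_of_commute_pow D.sp hdo hi hc'))
      htriv
    exact D.not_pair (x := c) (y := d) (hco ▸ D.qp) (hdo ▸ D.sp) (hco ▸ D.rq.symm) (hdo ▸ D.rs.symm)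
      (by rw [hco, hdo]; exact D.qs) hw.1 hw1 hcd (hcl hw.2) hdw

/-- Of two commuting elements of orders `q`, `s`, one centralizes the plane. -/
theorem OneModule.pair (D : OneModule r p q s R H) {A : Subgroup G} (hAH : A ≤ H) (hA : Plane p A)
    (hHA : H ≤ normalizer (A : Set G)) {c d : G} (hc : c ∈ H) (hd : d ∈ H) (hco : orderOf c = q)
    (hdo : orderOf d = s) (hcd : Commute c d) :
    (∀ a ∈ A, Commute c a) ∨ (∀ a ∈ A, Commute d a) := by
  by_contra hne
  push Not at hne
  obtain ⟨⟨a₁, ha₁, hca₁⟩, ⟨a₂, ha₂, hda₂⟩⟩ := hne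
  have hcfree : ∀ x ∈ A, Commute c x → x = 1 := fun x hx h => by_contra fun h1 =>
    D.side hAH hA hHA hc hd hco hdo hcd hx h1 h ⟨a₁, ha₁, hca₁⟩
  have hdfree : ∀ x ∈ A, Commute d x → x = 1 := fun x hx h => by_contra fun h1 =>
    D.swapQS.side hAH hA hHA hd hc hdo hco hcd.symm hx h1 h ⟨a₂, ha₂, hda₂⟩
  haveI := Fact.mk D.rp
  have hcs : (c * d) ^ s = c ^ s := by
    rw [hcd.mul_pow, show d ^ s = 1 from hdo ▸ pow_orderOf_eq_one d, mul_one]
  have hdq : (c * d) ^ q = d ^ q := by
    rw [hcd.mul_pow, show c ^ q = 1 from hco ▸ pow_orderOf_eq_one c, one_mul]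
  obtain ⟨v, hv, hv1, hcdv⟩ := exists_fixed_of_semiregular (r := r) (A := A) (R := R) (b := c * d)
    D.Rgrp (not_dvd_of_pow D.pp D.rp D.rp' hA.pow)
    (fun h => by
      rw [hcd.orderOf_mul_eq_mul_orderOf_of_coprime (by
        rw [hco, hdo]; exact (Nat.coprime_primes D.qp D.sp).2 D.qs), hco, hdo] at h
      rcases (Nat.Prime.dvd_mul D.rp).1 h with h | h
      exacts [D.rq ((Nat.prime_dvd_prime_iff_eq D.rp D.qp).1 h),
        D.rs ((Nat.prime_dvd_prime_iff_eq D.rp D.sp).1 h)])
    (D.normalizesR A) (D.normalizesR ⊤ (mem_top _)) (hHA (mul_mem hc hd))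
    (fun i hi a ha hcm => by
      by_cases hci : c ^ i = 1
      · refine hdfree a ha (eq_one_of_commute_pow D.sp hdo (i := i) (fun h => hi ?_) ?_)
        · rw [hcd.mul_pow, hci, h, mul_one]
        · rwa [hcd.mul_pow, hci, one_mul] at hcm
      · have h2 := hcm.pow_left s
        rw [← pow_mul, mul_comm i s, pow_mul, hcs, ← pow_mul] at h2
        refine hcfree a ha (eq_one_of_commute_pow D.qp hco (i := s * i) (fun h => hci ?_) h2)
        rw [← orderOf_dvd_iff_pow_eq_one, hco] at h ⊢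
        exact ((Nat.Prime.dvd_mul D.qp).1 h).resolve_left fun h' =>
          D.qs ((Nat.prime_dvd_prime_iff_eq D.qp D.sp).1 h'))
    (fun h => hA.not_cyclic (by
      have hAb : A = ⊥ := (eq_bot_iff_forall _).2 fun a ha => D.eq_one_of_fixes (hAH ha) fun v hv =>
        (mem_centralizer_iff.1 (h ha) v hv).symm
      rw [hAb]
      exact isCyclic_of_subsingleton))
  have hcv : Commute c v := (eq_one_of_commute_pow D.qp hco (i := s) (fun h => by
      rw [← orderOf_dvd_iff_pow_eq_one, hco] at h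
      exact D.qs ((Nat.prime_dvd_prime_iff_eq D.qp D.sp).1 h)) (hcs ▸ hcdv.pow_left s))
  have hdv : Commute d v := (eq_one_of_commute_pow D.sp hdo (i := q) (fun h => by
      rw [← orderOf_dvd_iff_pow_eq_one, hdo] at h
      exact D.qs ((Nat.prime_dvd_prime_iff_eq D.sp D.qp).1 h).symm) (hdq ▸ hcdv.pow_left q))
  exact D.not_pair (x := c) (y := d) (hco ▸ D.qp) (hdo ▸ D.sp) (hco ▸ D.rq.symm) (hdo ▸ D.rs.symm)
    (by rw [hco, hdo]; exact D.qs) hv hv1 hcd hcv hdv

/-- The case that a `{q, s}`-subgroup holds an element of order `s` centralizing the plane. -/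
theorem OneModule.plane_aux (D : OneModule r p q s R H) {A K : Subgroup G} (hAH : A ≤ H)
    (hA : Plane p A) (hHA : H ≤ normalizer (A : Set G)) (hKH : K ≤ H)
    (hK : IsPiNum {q, s} (Nat.card K)) {Eq Es : Subgroup G} (hqK : Eq ≤ K) (hEq : Plane q Eq)
    (hsK : Es ≤ K) (hEs : Plane s Es) {d : G} (hdK : d ∈ K) (hdo : orderOf d = s)
    (hdA : ∀ a ∈ A, Commute d a) : False := by
  haveI := Fact.mk D.qp
  haveI hsf := Fact.mk D.sp
  haveI := D.solvable
  have hKA := hKH.trans hHA
  set C := K ⊓ centralizer (A : Set G) with hC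
  have hCmem : ∀ {x : G}, x ∈ K → (∀ a ∈ A, Commute x a) → x ∈ C := fun {x} hx h =>
    ⟨hx, mem_centralizer_iff.2 fun a ha => (h a ha).symm.eq⟩
  have hdC : d ∈ C := hCmem hdK hdA
  obtain ⟨ℓ, hℓ, hℓo, v, hv, hv1, hℓv⟩ := hA.exists_fixed (D.normalizesR A)
    (by
      obtain ⟨k, hk⟩ := (haveI := Fact.mk D.rp; D.Rgrp.exists_card_eq)
      rw [hk]
      exact fun h => D.rp' ((Nat.prime_dvd_prime_iff_eq D.pp D.rp).1 (D.pp.dvd_of_dvd_pow h)).symm)
    D.R0
  obtain ⟨w, -, -, hwo, hwv⟩ := D.order_mem hv hv1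
  have hℓc : ∀ x ∈ C, Commute ℓ x := fun x hx => mem_centralizer_iff.1 hx.2 ℓ hℓ
  -- `C` is an `s`-group
  have hqC : ¬ q ∣ Nat.card C := by
    intro h
    refine D.noTriple.three (X := centralizer ({ℓ} : Set G)) (hℓo ▸ D.pp)
      (fun x hx => (mem_centralizer_singleton_iff.1 hx).symm) D.rp D.qp D.sp D.rq D.rs D.qs
      (hℓo ▸ D.rp'.symm) (hℓo ▸ D.pq) (hℓo ▸ D.ps) ?_ ?_ ?_
    · rw [← hwo]
      exact orderOf_dvd_natCard _ (mem_centralizer_singleton_iff.2
        (commute_mem_zpowers hwv hℓv).symm.eq)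
    · exact h.trans (card_dvd_of_le fun x hx => mem_centralizer_singleton_iff.2 (hℓc x hx).symm.eq)
    · rw [← hdo]
      exact orderOf_dvd_natCard _ (mem_centralizer_singleton_iff.2 (hℓc d hdC).symm.eq)
  have hCs : IsPGroup s C := isPGroup_iff_isPiNum.2 fun t ht htd => by
    rcases hK t ht (htd.trans (card_dvd_of_le inf_le_left)) with rfl | h
    exacts [absurd htd hqC, h]
  have hCu : ∀ x ∈ C, x ^ s = 1 → x ∈ zpowers d := by
    have hd' : s ∣ Nat.card C := hdo ▸ orderOf_dvd_natCard _ hdC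
    rcases exists_plane_or_unique hCs hd' with ⟨E, hEC, hE⟩ | ⟨a, -, hao, hu⟩
    · haveI := D.Rn
      obtain ⟨e, he, heo, v', hv', hv'1, hc⟩ := hE.exists_fixed (R := R ⊓ centralizer (zpowers ℓ : Set G))
        (inf_le_normalizer (D.normalizesR _) ((show E ≤ centralizer (zpowers ℓ : Set G) from fun e he =>
          mem_centralizer_iff.2 fun z hz => by
            obtain ⟨i, rfl⟩ := hz; exact ((hℓc e (hEC he)).zpow_left i).eq).trans le_normalizer))
        (fun h => by
          haveI := Fact.mk D.rp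
          obtain ⟨k, hk⟩ := D.Rgrp.exists_card_eq
          exact D.rs ((Nat.prime_dvd_prime_iff_eq D.sp D.rp).1
            (D.sp.dvd_of_dvd_pow (hk ▸ h.trans (card_dvd_of_le inf_le_left)))).symm)
        (fun h => hv1 (mem_bot.1 (h ▸ (show v ∈ R ⊓ centralizer (zpowers ℓ : Set G) from
          ⟨hv, mem_centralizer_iff.2 fun z hz => by obtain ⟨i, rfl⟩ := hz; exact (hℓv.zpow_left i).eq⟩))))
      exact (D.not_pair (x := ℓ) (y := e) (hℓo ▸ D.pp) (heo ▸ D.sp) (hℓo ▸ D.rp'.symm)
        (heo ▸ D.rs.symm) (by rw [hℓo, heo]; exact D.ps) hv'.1 hv'1 (hℓc e (hEC he))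
        (mem_centralizer_iff.1 hv'.2 ℓ (mem_zpowers ℓ)) hc).elim
    · intro x hx hxs
      have hd1 : d ≠ 1 := fun h => by rw [h, orderOf_one] at hdo; exact D.sp.ne_one hdo.symm
      have h1 : zpowers d = zpowers a := eq_of_le_of_card_ge
        (zpowers_le.2 (hu d hdC (hdo ▸ pow_orderOf_eq_one d)))
        (by rw [Nat.card_zpowers, Nat.card_zpowers, hdo, hao])
      exact h1 ▸ hu x hx hxs
  have hKC : K ≤ normalizer (C : Set G) :=
    inf_le_normalizer le_normalizer (hKA.trans (normalizer_le_normalizer_centralizer A))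
  have hKd : K ≤ normalizer (zpowers d : Set G) := by
    have hin : ∀ k ∈ K, ∀ x ∈ zpowers d, k * x * k⁻¹ ∈ zpowers d := fun k hk x hx =>
      hCu _ ((mem_normalizer_iff.1 (hKC hk) x).1 ((zpowers_le.2 hdC) hx)) (by
        obtain ⟨i, rfl⟩ := hx
        rw [conj_pow, ← zpow_natCast, ← zpow_mul, mul_comm, zpow_mul, zpow_natCast, ← hdo,
          pow_orderOf_eq_one]
        group)
    exact fun k hk => mem_normalizer_iff.2 fun x => ⟨hin k hk x, fun h => by
      simpa [mul_assoc] using hin k⁻¹ (inv_mem hk) _ h⟩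
  -- planes commuting with `d` are impossible
  have hno : ∀ E ≤ K, Plane q E → ∃ e ∈ E, ¬ Commute e d := by
    intro E hEK hE
    by_contra h
    push Not at h
    obtain ⟨e, he, heo, a, ha, ha1, hea⟩ := hE.exists_fixed (hEK.trans hKA)
      (not_dvd_of_pow D.pp D.qp D.pq.symm hA.pow) (fun h0 => hA.not_cyclic (by
        rw [h0]; exact isCyclic_of_subsingleton))
    exact D.noTriple e d a (heo ▸ D.qp) (hdo ▸ D.sp) (hA.orderOf_eq ha ha1 ▸ D.pp)
      (by rw [heo, hdo]; exact D.qs) (by rw [heo, hA.orderOf_eq ha ha1]; exact D.pq.symm)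
      (by rw [hdo, hA.orderOf_eq ha ha1]; exact D.ps.symm) (h e he) hea (hdA a ha)
  obtain ⟨e₀, he₀, he₀d⟩ := hno Eq hqK hEq
  have he₀o : orderOf e₀ = q := hEq.orderOf_eq he₀ fun h => he₀d (h ▸ Commute.one_left d)
  have hqs1 : q ∣ s - 1 := by
    have h := dvd_pred_of_move (he₀o ▸ D.qp) (hdo ▸ D.sp) (hKd (hqK he₀)) he₀d
    rwa [he₀o, hdo] at h
  have hlt : q < s := by
    have := Nat.le_of_dvd (by have := D.sp.two_le; omega) hqs1
    have := D.qp.two_le
    omega
  have hCcyc : IsCyclic C := isCyclic_of_unique_odd (p := s) (by have := D.qp.two_le; omega) hCs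
    fun x y hx hy hx1 => by
      have h : ∀ z : C, z ^ s = 1 → (z : G) ∈ zpowers d := fun z hz =>
        hCu z z.2 (by rw [← SubgroupClass.coe_pow, hz]; rfl)
      have hd1 : d ≠ 1 := fun h => by rw [h, orderOf_one] at hdo; exact D.sp.ne_one hdo.symm
      have hxd : zpowers (x : G) = zpowers d := eq_of_le_of_card_ge (zpowers_le.2 (h x hx)) (by
        rw [Nat.card_zpowers, Nat.card_zpowers, hdo,
          orderOf_eq_prime (p := s) (by rw [← SubgroupClass.coe_pow, hx]; rfl)
            (fun h0 => hx1 (Subtype.ext h0))])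
      obtain ⟨i, hi⟩ := hxd ▸ h y hy
      exact ⟨i, Subtype.ext (by simpa using hi)⟩
  obtain ⟨y, hy, hyC⟩ : ∃ y ∈ Es, y ∉ C := by
    by_contra h
    push Not at h
    haveI := hCcyc
    exact hEs.not_cyclic (isCyclic_of_le (show Es ≤ C from h))
  have hyo : orderOf y = s := hEs.orderOf_eq hy fun h => hyC (h ▸ one_mem C)
  -- an element of order `q` and one of order `s` outside `C` do not commute
  have hout : ∀ c ∈ K, orderOf c = q → ∀ n ∈ K, orderOf n = s → n ∉ C → ¬ Commute c n := by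
    intro c hc hco n hn hno' hnC hcn
    rcases D.pair hAH hA hHA (hKH hc) (hKH hn) hco hno' hcn with h | h
    · exact hqC (hco ▸ orderOf_dvd_natCard _ (hCmem hc h))
    · exact hnC (hCmem hn h)
  obtain ⟨f, hf, hfo, hfd⟩ := hEq.line (hdo ▸ D.sp) (hdo ▸ D.qs.symm) (hqK.trans hKd)
  haveI : (C.subgroupOf K).Normal := (normal_subgroupOf_iff_le_normalizer inf_le_left).2 hKC
  set π := QuotientGroup.mk' (C.subgroupOf K) with hπ
  have hπ1 : ∀ x : K, π x = 1 ↔ (x : G) ∈ C := fun x =>
    (QuotientGroup.eq_one_iff x).trans mem_subgroupOf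
  by_cases hOq : Cfsg.pCore q (K ⧸ C.subgroupOf K) = ⊥
  · -- the case of an `s`-core
    set S := ((Cfsg.pCore s (K ⧸ C.subgroupOf K)).comap π).map K.subtype with hS
    have hSs : IsPGroup s S := by
      rintro ⟨_, ⟨x, hx, rfl⟩⟩
      obtain ⟨k, hk⟩ := (pCore_isPGroup s (G := K ⧸ C.subgroupOf K)) ⟨π x, hx⟩
      have hk' : (π x) ^ s ^ k = 1 := congrArg Subtype.val hk
      rw [← map_pow, hπ1] at hk'
      obtain ⟨j, hj⟩ := hCs ⟨_, hk'⟩
      refine ⟨k + j, Subtype.ext ?_⟩
      have := congrArg Subtype.val hj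
      simpa [pow_add, pow_mul] using this
    have hKS : K ≤ normalizer (S : Set G) := by
      haveI := pCore_normal' (G := K ⧸ C.subgroupOf K) s
      haveI : ((Cfsg.pCore s (K ⧸ C.subgroupOf K)).comap π).Normal := Normal.comap inferInstance π
      intro k hk
      exact le_normalizer_map K.subtype
        ⟨⟨k, hk⟩, (normalizer_eq_top ((Cfsg.pCore s (K ⧸ C.subgroupOf K)).comap π)).symm ▸ mem_top _, rfl⟩
    have hSq : ¬ q ∣ Nat.card S := by
      obtain ⟨k, hk⟩ := hSs.exists_card_eq
      rw [hk]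
      exact fun h => D.qs ((Nat.prime_dvd_prime_iff_eq D.qp D.sp).1 (D.qp.dvd_of_dvd_pow h))
    have hfS : S ≤ centralizer ({f} : Set G) := by
      refine hEq.le_of_fixed (hqK.trans hKS) hSq fun e he heo z hz hez => ?_
      by_cases hz1 : z = 1
      · rw [hz1]; exact one_mem _
      have hzfix : Commute e d := by
        obtain ⟨k, hk⟩ := (IsPGroup.iff_orderOf.1 hSs) ⟨z, hz⟩
        rw [Subgroup.orderOf_mk] at hk
        rcases k with _ | k
        · exact absurd (orderOf_eq_one_iff.1 (hk.trans (pow_zero s))) hz1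
        have hwo' : orderOf (z ^ s ^ k) = s := by
          rw [orderOf_pow, hk, Nat.gcd_eq_right (pow_dvd_pow s (Nat.le_succ k)), pow_succ',
            Nat.mul_div_cancel _ (pow_pos D.sp.pos k)]
        by_cases hwC : z ^ s ^ k ∈ C
        · have hw1 : z ^ s ^ k ≠ 1 := fun h => by rw [h, orderOf_one] at hwo'; exact D.sp.ne_one hwo'.symm
          exact commute_of_mem_zpowers (hdo ▸ D.sp)
            (hCu _ hwC (by simpa [hwo'] using pow_orderOf_eq_one (z ^ s ^ k))) hw1 (hez.pow_right _)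
        · exact absurd (hez.pow_right _) (hout e (hqK he) heo _
            (pow_mem (map_subtype_le _ hz) _) hwo' hwC)
      by_cases hef : e ∈ zpowers f
      · refine mem_centralizer_singleton_iff.2 ?_
        exact (commute_of_mem_zpowers (hfo ▸ D.qp) hef (fun h => by
          rw [h, orderOf_one] at heo; exact D.qp.ne_one heo.symm) hez.symm).eq
      · exfalso
        obtain ⟨x, hx, hxd⟩ := hno _ ((closure_le K).2 (by
          rintro w (rfl | rfl)
          exacts [hqK hf, hqK he])) (plane_of_pair D.qp (hEq.pow f hf) (hEq.pow e he)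
          (fun h => by rw [h, orderOf_one] at hfo; exact D.qp.ne_one hfo.symm) (hEq.commute hf he) hef)
        refine hxd ?_
        have hle : closure ({f, e} : Set G) ≤ centralizer ({d} : Set G) := (closure_le _).2 (by
          rintro w (rfl | rfl)
          exacts [mem_centralizer_singleton_iff.2 hfd.eq, mem_centralizer_singleton_iff.2 hzfix.eq])
        exact mem_centralizer_singleton_iff.1 (hle hx)
    have hcore : Cfsg.pPrimeCore s (K ⧸ C.subgroupOf K) = ⊥ := by
      haveI := (pPrimeCore_eq_piCore (G := K ⧸ C.subgroupOf K) D.sp)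
      haveI hn : (Cfsg.pPrimeCore s (K ⧸ C.subgroupOf K)).Normal :=
        haveI := pPrimeCore_characteristic (G := K ⧸ C.subgroupOf K) s
        inferInstance
      refine le_bot_iff.1 (hOq ▸ CfsgLib.Coprime.le_pCore (isPGroup_iff_isPiNum.2 fun t ht htd => ?_))
      rcases hK t ht ((htd.trans (card_subgroup_dvd_card _)).trans (card_quotient_dvd_card _)) with h | h
      · exact h
      · exact absurd (h ▸ htd) (pPrimeCore_not_dvd D.sp)
    have hfc : π ⟨f, hqK hf⟩ ∈ centralizer (Cfsg.pCore s (K ⧸ C.subgroupOf K) : Set (K ⧸ C.subgroupOf K)) := by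
      refine mem_centralizer_iff.2 fun z hz => ?_
      obtain ⟨k, rfl⟩ := QuotientGroup.mk'_surjective (C.subgroupOf K) z
      show π k * π ⟨f, hqK hf⟩ = π ⟨f, hqK hf⟩ * π k
      rw [← map_mul, ← map_mul]
      exact congrArg π (Subtype.ext (mem_centralizer_singleton_iff.1
        (hfS (mem_map_of_mem K.subtype (x := k) hz))))
    have hfmem : f ∈ S := ⟨⟨f, hqK hf⟩, centralizer_pCore_le hcore hfc, rfl⟩
    exact hSq (hfo ▸ orderOf_dvd_natCard _ hfmem)
  · -- the case of a `q`-core
    haveI := pCore_normal' (G := K ⧸ C.subgroupOf K) q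
    haveI hNn : ((Cfsg.pCore q (K ⧸ C.subgroupOf K)).comap π).Normal := Normal.comap inferInstance π
    set N := ((Cfsg.pCore q (K ⧸ C.subgroupOf K)).comap π).map K.subtype with hN
    have hNK : N ≤ K := map_subtype_le _
    have hKN : K ≤ normalizer (N : Set G) := fun k hk => le_normalizer_map K.subtype
      ⟨⟨k, hk⟩, (normalizer_eq_top ((Cfsg.pCore q (K ⧸ C.subgroupOf K)).comap π)).symm ▸ mem_top _, rfl⟩
    have hCN : C ≤ N := fun x hx => ⟨⟨x, hx.1⟩, by
      rw [SetLike.mem_coe, mem_comap, (hπ1 _).2 hx]; exact one_mem _, rfl⟩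
    set P := ((default : Sylow q N) : Subgroup N).map N.subtype with hP
    have hPsyl : IsSylowIn q P N := isSylowIn_map _
    have hPq : IsPGroup q P := hPsyl.isPGroup
    have hPN : P ≤ N := hPsyl.1
    have hNq : q ∣ Nat.card N := by
      obtain ⟨k, hk⟩ := (pCore_isPGroup q (G := K ⧸ C.subgroupOf K)).exists_card_eq
      rcases k with _ | k
      · exact absurd (Subgroup.card_eq_one.1 (hk.trans (pow_zero q))) hOq
      rw [hN, card_map_of_injective K.subtype_injective]
      refine (hk ▸ dvd_pow_self q (Nat.succ_ne_zero k) : q ∣ Nat.card (Cfsg.pCore q (K ⧸ C.subgroupOf K))).trans ?_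
      conv_lhs => rw [← map_comap_eq_self_of_surjective (QuotientGroup.mk'_surjective (C.subgroupOf K))
        (Cfsg.pCore q (K ⧸ C.subgroupOf K))]
      exact card_map_dvd _ _
    have hP0 : P ≠ ⊥ := fun h => by
      have h2 := hPsyl.2
      rw [h, card_bot] at h2
      have := (Nat.Prime.factorization_pos_of_dvd D.qp Nat.card_pos.ne' hNq)
      have : 1 < q ^ (Nat.card N).factorization q := Nat.one_lt_pow (by omega) D.qp.one_lt
      omega
    have hNsup : N ≤ C ⊔ P := by
      have hle : C ⊔ P ≤ N := sup_le hCN hPN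
      refine relIndex_eq_one.1 (Nat.eq_one_of_dvd_coprimes (a := P.relIndex N) (b := C.relIndex N) ?_
        (relIndex_dvd_of_le_left N le_sup_right) (relIndex_dvd_of_le_left N le_sup_left))
      have h1 : ¬ q ∣ P.relIndex N := by
        intro h
        have h2 := card_mul_relIndex hPN
        rw [hPsyl.2] at h2
        have h3 : q ^ ((Nat.card N).factorization q + 1) ∣ Nat.card N := by
          calc q ^ ((Nat.card N).factorization q + 1) = q ^ (Nat.card N).factorization q * q := pow_succ _ _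
            _ ∣ q ^ (Nat.card N).factorization q * P.relIndex N := mul_dvd_mul_left _ h
            _ = Nat.card N := h2
        have := (Nat.Prime.pow_dvd_iff_le_factorization D.qp Nat.card_pos.ne').1 h3
        omega
      have h2 : ∃ k, C.relIndex N = q ^ k := by
        have h3 : C.relIndex N = Nat.card (Cfsg.pCore q (K ⧸ C.subgroupOf K)) := by
          have h4 := relIndex_comap (⊥ : Subgroup (K ⧸ C.subgroupOf K)) π
            ((Cfsg.pCore q (K ⧸ C.subgroupOf K)).comap π)
          rw [MonoidHom.comap_bot, QuotientGroup.ker_mk',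
            map_comap_eq_self_of_surjective (QuotientGroup.mk'_surjective _), relIndex_bot_left] at h4
          rw [← h4, hN, ← relIndex_map_map_of_injective (f := K.subtype) (C.subgroupOf K) _
            K.subtype_injective, map_subgroupOf_eq_of_le inf_le_left]
        exact h3 ▸ (pCore_isPGroup q (G := K ⧸ C.subgroupOf K)).exists_card_eq
      obtain ⟨k, hk⟩ := h2
      rw [hk]
      exact (((D.qp.coprime_iff_not_dvd).2 h1).pow_left k).symm
    -- Frattini
    set K' := K ⊓ normalizer (P : Set G) with hK'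
    have hfrat : ∀ k ∈ K, ∃ δ ∈ C, ∃ m ∈ K', k = δ * m := by
      intro k hk
      obtain ⟨n, hn, hnk⟩ := hPsyl.exists_conj (hPsyl.conjBy (hKN hk))
      have hm : n⁻¹ * k ∈ normalizer (P : Set G) := by
        rw [← conjBy_eq_self_iff]
        rw [← conjBy_conjBy, ← hnk, conjBy_conjBy, inv_mul_cancel, conjBy_one]
      obtain ⟨δ, hδ, π', hπ', hnn⟩ := mem_sup_exists (N := C) (H := P)
        ((hPN.trans hNK).trans hKC) (hNsup hn)
      have hm₁ : π' * (n⁻¹ * k) ∈ K := mul_mem (hNK (hPN hπ')) (mul_mem (inv_mem (hNK hn)) hk)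
      have hm₂ : π' * (n⁻¹ * k) ∈ normalizer (P : Set G) :=
        mul_mem ((le_normalizer : P ≤ normalizer (P : Set G)) hπ') hm
      refine ⟨δ, hδ, π' * (n⁻¹ * k), ⟨hm₁, hm₂⟩, ?_⟩
      rw [← hnn]; group
    obtain ⟨B, t, ht, hBP, hB0, hK'B, hBc, hBt, htd, hmin⟩ :=
      exists_minimal_invariant (D.solvableSub P) hP0 (inf_le_right : K' ≤ normalizer (P : Set G))
    have htq : t = q := by
      obtain ⟨k, hk⟩ := hPq.exists_card_eq
      exact (Nat.prime_dvd_prime_iff_eq ht D.qp).1 (ht.dvd_of_dvd_pow (hk ▸ htd))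
    subst htq
    have hBK : B ≤ K := (hBP.trans hPN).trans hNK
    rcases plane_or_zpowers ht hB0 hBc hBt with hPl | ⟨b, hbo, rfl⟩
    · obtain ⟨f₀, hf₀, hf₀o, hf₀d⟩ := hPl.line (hdo ▸ D.sp) (hdo ▸ D.qs.symm) (hBK.trans hKd)
      have hall : B ⊓ centralizer (zpowers d : Set G) = B := by
        refine hmin _ inf_le_left (fun h => ?_) (inf_le_normalizer hK'B
          ((inf_le_left.trans hKd).trans (normalizer_le_normalizer_centralizer _)))
        have h1 : f₀ ∈ B ⊓ centralizer (zpowers d : Set G) := ⟨hf₀, mem_centralizer_iff.2 fun z hz => by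
          obtain ⟨i, rfl⟩ := hz; exact (hf₀d.symm.zpow_left i).eq⟩
        rw [h, mem_bot] at h1
        rw [h1, orderOf_one] at hf₀o
        exact ht.ne_one hf₀o.symm
      obtain ⟨x, hx, hxd⟩ := hno B hBK hPl
      exact hxd (mem_centralizer_iff.1 (hall.symm.le hx).2 d (mem_zpowers d)).symm
    have hbK : b ∈ K := hBK (mem_zpowers b)
    have hmove : ∀ x ∈ K, orderOf x = s → x ∈ normalizer (zpowers b : Set G) → Commute x b := by
      intro x _ hxo hxn
      by_contra hne
      have h := dvd_pred_of_move (hxo ▸ D.sp) (hbo ▸ ht) hxn hne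
      rw [hxo, hbo] at h
      have := Nat.le_of_dvd (by have := ht.two_le; omega) h
      omega
    obtain ⟨δ, hδ, m, hm, hyδ⟩ := hfrat y (hsK hy)
    by_cases hbd : Commute b d
    · haveI := hCcyc
      haveI : IsMulCommutative C := inferInstance
      obtain ⟨k, hk⟩ := hCs.exists_card_eq
      have hbC : ∀ z ∈ C, Commute b z := commute_of_fix_prime_order (hKC hbK)
        (by rw [hbo, hk]; exact ((Nat.coprime_primes ht D.sp).2 D.qs).pow_right k) fun z hz hzp => by
          have hzs : orderOf z = s := (Nat.prime_dvd_prime_iff_eq hzp D.sp).1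
            (hzp.dvd_of_dvd_pow (n := k) (hk ▸ orderOf_dvd_natCard _ hz))
          exact commute_mem_zpowers (hCu z hz (hzs ▸ pow_orderOf_eq_one z)) hbd
      refine hout b hbK hbo y (hsK hy) hyo hyC (hmove y (hsK hy) hyo ?_).symm
      rw [hyδ]
      refine mul_mem (centralizer_le_normalizer _ (mem_centralizer_iff.2 fun z hz => ?_)) (hK'B hm)
      exact (commute_mem_zpowers hz (hbC δ hδ).symm).symm.eq
    · have hfree : ∀ z ∈ C, z ∈ K' → z = 1 := by
        intro z hz hzK
        by_contra hz1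
        have hzb : Commute z b := by
          have h1 : z * b * z⁻¹ * b⁻¹ ∈ zpowers b :=
            mul_mem ((mem_normalizer_iff.1 (hK'B hzK) b).1 (mem_zpowers b)) (inv_mem (mem_zpowers b))
          have h2 : z * b * z⁻¹ * b⁻¹ ∈ C := by
            have := mul_mem hz ((mem_normalizer_iff.1 (hKC hbK) z⁻¹).1 (inv_mem hz))
            simpa [mul_assoc] using this
          have h3 : z * b * z⁻¹ * b⁻¹ = 1 := by
            refine Subgroup.disjoint_def.1 (disjoint_of_coprime_natCard (H := zpowers b) (K := C) ?_) h1 h2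
            rw [Nat.card_zpowers, hbo]
            exact (Nat.Prime.coprime_iff_not_dvd ht).2 hqC
          rw [mul_inv_eq_one] at h3
          exact mul_inv_eq_iff_eq_mul.1 h3
        obtain ⟨k, hk⟩ := (IsPGroup.iff_orderOf.1 hCs) ⟨z, hz⟩
        rw [Subgroup.orderOf_mk] at hk
        rcases k with _ | k
        · exact hz1 (orderOf_eq_one_iff.1 (hk.trans (pow_zero s)))
        have hwo' : orderOf (z ^ s ^ k) = s := by
          rw [orderOf_pow, hk, Nat.gcd_eq_right (pow_dvd_pow s (Nat.le_succ k)), pow_succ',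
            Nat.mul_div_cancel _ (pow_pos D.sp.pos k)]
        refine hbd (commute_of_mem_zpowers (hdo ▸ D.sp) (hCu _ (pow_mem hz _)
          (by simpa [hwo'] using pow_orderOf_eq_one (z ^ s ^ k))) (fun h => ?_) (hzb.pow_left _).symm)
        rw [h, orderOf_one] at hwo'
        exact D.sp.ne_one hwo'.symm
      have hms : m ^ s = 1 := by
        refine hfree _ ?_ (pow_mem hm s)
        have h1 : ((⟨δ, hδ.1⟩ : K) * ⟨m, hm.1⟩) ^ s = 1 := Subtype.ext (by
          simp only [SubgroupClass.coe_pow, Subgroup.coe_mul, Subgroup.coe_one]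
          rw [← hyδ]
          exact hEs.pow y hy)
        have h2 := congrArg π h1
        rw [map_pow, map_mul, (hπ1 _).2 hδ, one_mul, map_one, ← map_pow, hπ1] at h2
        exact h2
      have hmC : m ∉ C := fun h => hyC (hyδ ▸ mul_mem hδ h)
      have hmo : orderOf m = s := orderOf_eq_prime hms fun h => hmC (h ▸ one_mem C)
      exact hout b hbK hbo m hm.1 hmo hmC (hmove m hm.1 hmo (hK'B hm)).symm

/-- The complement normalizes no plane. -/
theorem OneModule.no_plane (D : OneModule r p q s R H) {A : Subgroup G} (hAH : A ≤ H)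
    (hA : Plane p A) (hHA : H ≤ normalizer (A : Set G)) : False := by
  obtain ⟨K, hK⟩ := exists_hallIn ({q, s} : Set ℕ) (D.solvableSub H)
  obtain ⟨Eq, hEq1, hEq⟩ := D.planeQ
  obtain ⟨Es, hEs1, hEs⟩ := D.planeS
  obtain ⟨Eq', hqK, hEq'⟩ := hEq.exists_in_hall hK (D.solvableSub H) (by simp) hEq1
  obtain ⟨Es', hsK, hEs'⟩ := hEs.exists_in_hall hK (D.solvableSub H) (by simp) hEs1
  obtain ⟨c, hc, d, hd, hco, hdo, hcd⟩ :=
    exists_pair (D.solvableSub K) hK.2.1 D.qs hEq' hEs' hqK hsK
  rcases D.pair hAH hA hHA (hK.1 hc) (hK.1 hd) hco hdo hcd with h | h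
  · exact D.swapQS.plane_aux hAH hA hHA hK.1 (by rw [Set.pair_comm]; exact hK.2.1) hsK hEs' hqK hEq'
      hc hco h
  · exact D.plane_aux hAH hA hHA hK.1 hK.2.1 hqK hEq' hsK hEs' hd hdo h

end CfsgLib.PGroup.FourPrimes
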