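import Cfsg.Agent.Lib.Coprime.Action
import Cfsg.Agent.Lib.Coprime.FrattiniExtra

/-!
# A semiregular cyclic group of operators has fixed points on the module of its kernel
-/

set_option autoImplicit false
set_option linter.style.haveILetI false

namespace CfsgLib.PGroup.FourPrimes

open Subgroup CfsgLib.Coprime

universe u

variable {G : Type u} [Group G] [Finite G]

/-- If `b` acts semiregularly on `A`, and both act coprimely on the abelian group `V` with `b`
having no fixed point, then `A` centralizes `V`. -/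
theorem le_centralizer_of_fixed_free {A V : Subgroup G} [IsMulCommutative V] {b : G}
    (hcop : (Nat.card A).Coprime (Nat.card V)) (hAV : A ≤ normalizer (V : Set G))
    (hbV : b ∈ normalizer (V : Set G)) (hbA : b ∈ normalizer (A : Set G))
    (hfpf : ∀ i : ℕ, b ^ i ≠ 1 → ∀ a ∈ A, Commute (b ^ i) a → a = 1)
    (hfree : ∀ v ∈ V, Commute b v → v = 1) : A ≤ centralizer (V : Set G) := by
  classical
  open scoped IsMulCommutative in
  let c : normalizer (V : Set G) →* MulAut V := V.normalizerMonoidHom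
  have hc : ∀ (g : normalizer (V : Set G)) (v : V), ((c g v : V) : G) = g * v * (g : G)⁻¹ :=
    fun g v => rfl
  haveI := Fintype.ofFinite A
  let β : normalizer (V : Set G) := ⟨b, hbV⟩
  let α : A → normalizer (V : Set G) := fun a => ⟨a, hAV a.2⟩
  have hn : 0 < orderOf b := orderOf_pos b
  have hU : ∀ w : V, ∏ i ∈ Finset.range (orderOf b), c (β ^ i) w = 1 := by
    intro w
    have hfix : c β (∏ i ∈ Finset.range (orderOf b), c (β ^ i) w) =
        ∏ i ∈ Finset.range (orderOf b), c (β ^ i) w := by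
      have h1 : ∀ i : ℕ, c β (c (β ^ i) w) = c (β ^ (i + 1)) w := fun i => by
        rw [pow_succ', map_mul, MulAut.mul_apply]
      rw [map_prod, Finset.prod_congr rfl fun i _ => h1 i]
      have hlast : c (β ^ orderOf b) w = c (β ^ 0) w := by
        congr 2
        exact Subtype.ext (by simp [β, pow_orderOf_eq_one])
      have h2 := Finset.prod_range_succ (fun i => c (β ^ i) w) (orderOf b)
      rw [Finset.prod_range_succ', hlast] at h2
      exact mul_right_cancel h2
    refine Subtype.ext (hfree _ (SetLike.coe_mem _) ?_)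
    have h2 := congrArg Subtype.val hfix
    rw [hc] at h2
    exact mul_inv_eq_iff_eq_mul.1 h2
  -- the sum over `A` is fixed by `A`
  let T : V → V := fun w => ∏ a : A, c (α a) w
  have hT : ∀ (a₀ : A) (w : V), c (α a₀) (T w) = T w := by
    intro a₀ w
    show c (α a₀) (∏ a : A, c (α a) w) = ∏ a : A, c (α a) w
    rw [map_prod]
    refine Fintype.prod_bijective (fun a => a₀ * a) (Group.mulLeft_bijective a₀) _ _ fun a => ?_
    rw [← MulAut.mul_apply, ← map_mul]
    rfl
  -- the twisted diagonals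
  have hsum : ∀ (v : V) (i : ℕ), b ^ i ≠ 1 →
      ∏ a : A, c (α a * β ^ i * (α a)⁻¹) v = T (c (β ^ i) v) := by
    intro v i hi
    have hbi : b ^ i ∈ normalizer (A : Set G) := pow_mem hbA i
    let f : A → A := fun a => ⟨a * (b ^ i * (a : G)⁻¹ * (b ^ i)⁻¹), mul_mem a.2
      ((mem_normalizer_iff.1 hbi _).1 (inv_mem a.2))⟩
    have hinj : Function.Injective f := by
      intro a a' h
      have h' : (a : G) * (b ^ i * (a : G)⁻¹ * (b ^ i)⁻¹) =
          a' * (b ^ i * (a' : G)⁻¹ * (b ^ i)⁻¹) := congrArg Subtype.val h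
      have h'' : ((a' : G)⁻¹ * a) * b ^ i = b ^ i * ((a' : G)⁻¹ * a) := by
        calc ((a' : G)⁻¹ * a) * b ^ i
            = (a' : G)⁻¹ * ((a : G) * (b ^ i * (a : G)⁻¹ * (b ^ i)⁻¹)) * (b ^ i * a) := by group
          _ = (a' : G)⁻¹ * ((a' : G) * (b ^ i * (a' : G)⁻¹ * (b ^ i)⁻¹)) * (b ^ i * a) := by rw [h']
          _ = b ^ i * ((a' : G)⁻¹ * a) := by group
      exact Subtype.ext (inv_mul_eq_one.1
        (hfpf i hi _ (mul_mem (inv_mem a'.2) a.2) (Commute.symm h''))).symm
    refine Fintype.prod_bijective f (Finite.injective_iff_bijective.1 hinj) _ _ fun a => ?_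
    rw [← MulAut.mul_apply, ← map_mul]
    congr 2
    refine Subtype.ext ?_
    show (a : G) * ((β ^ i : normalizer (V : Set G)) : G) * (a : G)⁻¹ =
      (a : G) * (b ^ i * (a : G)⁻¹ * (b ^ i)⁻¹) * ((β ^ i : normalizer (V : Set G)) : G)
    rw [SubmonoidClass.coe_pow]
    group
    simp [β]
  intro x hx
  refine mem_centralizer_iff.2 fun u hu => ?_
  let v : V := ⟨u, hu⟩
  have htot : ∏ i ∈ Finset.range (orderOf b), ∏ a : A, c (α a * β ^ i * (α a)⁻¹) v = 1 := by
    rw [Finset.prod_comm]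
    refine Finset.prod_eq_one fun a _ => ?_
    have : ∀ i : ℕ, c (α a * β ^ i * (α a)⁻¹) v = c (α a) (c (β ^ i) (c (α a)⁻¹ v)) := fun i => by
      rw [map_mul, map_mul, MulAut.mul_apply, MulAut.mul_apply]
    rw [Finset.prod_congr rfl fun i _ => this i, ← map_prod, hU, map_one]
  obtain ⟨m, hm⟩ : ∃ m, orderOf b = m + 1 := ⟨orderOf b - 1, by omega⟩
  rw [hm, Finset.prod_range_succ'] at htot
  have h0 : ∏ a : A, c (α a * β ^ 0 * (α a)⁻¹) v = v ^ Nat.card A := by
    simp [Nat.card_eq_fintype_card]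
  rw [h0] at htot
  let a₀ : A := ⟨x, hx⟩
  have hfixpow : c (α a₀) (v ^ Nat.card A) = v ^ Nat.card A := by
    rw [eq_inv_of_mul_eq_one_right htot, map_inv, map_prod]
    refine congrArg Inv.inv (Finset.prod_congr rfl fun i hi => ?_)
    rw [hsum v (i + 1) (pow_ne_one_of_lt_orderOf (Nat.succ_ne_zero i)
      (hm ▸ Nat.succ_lt_succ (Finset.mem_range.1 hi))), hT]
  rw [map_pow] at hfixpow
  have hfix : c (α a₀) v = v := (powCoprime hcop.symm).injective hfixpow
  have h2 := congrArg Subtype.val hfix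
  rw [hc] at h2
  exact (mul_inv_eq_iff_eq_mul.1 h2).symm

/-- If `b` acts semiregularly on `A` and `A` acts nontrivially on the `r`-group `R`, coprimely,
then `b` fixes a nontrivial element of `R`. -/
theorem exists_fixed_of_semiregular {r : ℕ} [Fact r.Prime] {A R : Subgroup G} {b : G}
    (hR : IsPGroup r R) (hA : ¬ r ∣ Nat.card A) (hb : ¬ r ∣ orderOf b)
    (hAR : A ≤ normalizer (R : Set G)) (hbR : b ∈ normalizer (R : Set G))
    (hbA : b ∈ normalizer (A : Set G))
    (hfpf : ∀ i : ℕ, b ^ i ≠ 1 → ∀ a ∈ A, Commute (b ^ i) a → a = 1)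
    (hnt : ¬ A ≤ centralizer (R : Set G)) : ∃ v ∈ R, v ≠ 1 ∧ Commute b v := by
  classical
  by_contra hne
  push Not at hne
  have hcopr : ∀ (H : Subgroup G), H ≤ R → ∀ n : ℕ, ¬ r ∣ n → n.Coprime (Nat.card H) := by
    intro H hH n hn
    obtain ⟨k, hk⟩ := (hR.to_le hH).exists_card_eq
    exact hk ▸ (((Nat.Prime.coprime_iff_not_dvd Fact.out).2 hn).symm.pow_right k)
  set Φ := (frattini R).map R.subtype with hΦ
  have hΦR : Φ ≤ R := map_subtype_le _
  have hcf : (Nat.card A).Coprime (Nat.card (frattini R)) := by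
    have h := hcopr Φ hΦR _ hA
    rwa [hΦ, card_map_of_injective R.subtype_injective] at h
  obtain ⟨a₁, ha₁, k₁, hk₁, hout⟩ : ∃ a ∈ A, ∃ k ∈ R, a * k * a⁻¹ * k⁻¹ ∉ Φ := by
    by_contra h
    push Not at h
    exact hnt (le_centralizer_of_trivial_on_frattini_quotient hAR hcf h)
  set N : Subgroup G := normalizer (R : Set G) with hN
  have hRN : R ≤ N := le_normalizer
  have hΦN : N ≤ normalizer (Φ : Set G) := by
    intro g hg
    have hg' : conjBy g R = R := conjBy_eq_self_iff.2 hg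
    rw [← conjBy_eq_self_iff]
    haveI : (R.subgroupOf N).Normal := normal_in_normalizer
    haveI hch : (frattini R).Characteristic := frattini_characteristic
    let e : R ≃* R := (R.normalizerMonoidHom ⟨g, hg⟩)
    have he := characteristic_iff_map_eq.1 hch e
    calc conjBy g Φ = ((frattini R).map e.toMonoidHom).map R.subtype := by
          rw [hΦ, conjBy, Subgroup.map_map, Subgroup.map_map]
          rfl
      _ = Φ := by rw [he]
  haveI : (Φ.subgroupOf N).Normal :=
    (normal_subgroupOf_iff_le_normalizer (hΦR.trans hRN)).2 hΦN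
  set π := QuotientGroup.mk' (Φ.subgroupOf N) with hπ
  have hker : ∀ x : N, π x = 1 ↔ (x : G) ∈ Φ := fun x =>
    (QuotientGroup.eq_one_iff x).trans mem_subgroupOf
  set V := (R.subgroupOf N).map π with hV
  set A' := (A.subgroupOf N).map π with hA'
  set β : N := ⟨b, hbR⟩ with hβ
  haveI : Group.IsNilpotent R := hR.isNilpotent
  haveI : IsMulCommutative V := by
    refine isMulCommutative_iff.2 ?_
    rintro ⟨_, x, hx, rfl⟩ ⟨_, y, hy, rfl⟩
    refine Subtype.ext ?_
    show π x * π y = π y * π x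
    rw [← map_mul, ← map_mul, ← mul_inv_eq_one, ← map_inv, ← map_mul, hker]
    have := commutator_le_frattini_of_isNilpotent (G := R)
      (commutator_mem_commutator (g₁ := (⟨x, hx⟩ : R)) (g₂ := (⟨y, hy⟩ : R)) (mem_top _) (mem_top _))
    refine ⟨_, this, ?_⟩
    simp [commutatorElement_def, mul_assoc]
  have hAinj : ∀ a : N, (a : G) ∈ A → π a = 1 → (a : G) = 1 := fun a ha h1 =>
    Subgroup.disjoint_def.1 (disjoint_of_coprime_natCard (hcopr Φ hΦR _ hA)) ha ((hker a).1 h1)
  have hRn : (R.subgroupOf N).Normal := normal_in_normalizer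
  have htop : normalizer ((R.subgroupOf N : Subgroup N) : Set N) = ⊤ := normalizer_eq_top_iff.2 hRn
  have hle : A' ≤ centralizer (V : Set (N ⧸ Φ.subgroupOf N)) := by
    refine le_centralizer_of_fixed_free (b := π β) ?_ ?_ ?_ ?_ ?_ ?_
    · refine Nat.Coprime.of_dvd (card_map_dvd (A.subgroupOf N) π) (card_map_dvd (R.subgroupOf N) π) ?_
      rw [Nat.card_congr (subgroupOfEquivOfLe hAR).toEquiv, Nat.card_congr (subgroupOfEquivOfLe hRN).toEquiv]
      exact hcopr R le_rfl _ hA
    · refine (map_mono le_top).trans (le_trans (le_of_eq ?_) (le_normalizer_map (H := R.subgroupOf N) π))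
      rw [htop]
    · exact le_normalizer_map π ⟨β, htop.symm ▸ mem_top _, rfl⟩
    · refine le_normalizer_map π ⟨β, mem_normalizer_iff.2 fun x => ?_, rfl⟩
      simp only [mem_subgroupOf, Subgroup.coe_mul, InvMemClass.coe_inv]
      exact mem_normalizer_iff.1 hbA x
    · rintro i hi _ ⟨a, ha, rfl⟩ hcm
      have hbi : b ^ i ≠ 1 := fun h => hi (by
        rw [← map_pow, show β ^ i = 1 from Subtype.ext (by simp [hβ, h]), map_one])
      have h1 : π (β ^ i * a * (β ^ i)⁻¹ * a⁻¹) = 1 := by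
        rw [map_mul, map_mul, map_mul, map_inv, map_inv, map_pow, hcm.eq]
        group
      have h2 : b ^ i * (a : G) * (b ^ i)⁻¹ * (a : G)⁻¹ ∈ A := mul_mem
        ((mem_normalizer_iff.1 (pow_mem hbA i) _).1 ha) (inv_mem ha)
      have h3 : b ^ i * (a : G) * (b ^ i)⁻¹ * (a : G)⁻¹ = 1 := by
        have := hAinj _ (by simpa [hβ] using h2) h1
        simpa [hβ] using this
      have h4 := hfpf i hbi a ha (mul_inv_eq_iff_eq_mul.1 (mul_inv_eq_one.1 h3))
      rw [show a = 1 from Subtype.ext h4, map_one]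
    · rintro _ ⟨k, hk, rfl⟩ hcm
      by_contra hk1
      have hfix : ∀ x ∈ zpowers b, x * (k : G) * x⁻¹ * (k : G)⁻¹ ∈ Φ := by
        rintro x ⟨j, rfl⟩
        have h1 : π (β ^ j * k * (β ^ j)⁻¹ * k⁻¹) = 1 := by
          rw [map_mul, map_mul, map_mul, map_inv, map_inv, map_zpow, (hcm.zpow_left j).eq]
          group
        simpa [hβ] using (hker _).1 h1
      obtain ⟨n, hn, hkn⟩ := exists_fixed_in_coset (A := zpowers b) (N := Φ)
        (zpowers_le.2 (hΦN hbR)) (by rw [Nat.card_zpowers]; exact hcopr Φ hΦR _ hb)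
        (Or.inl (isSolvable_of_isMulCommutative inferInstance)) (hΦN k.2) hfix
      refine hne ((k : G) * n) (mul_mem hk (hΦR hn)) (fun h1 => hk1 ((hker k).2 ?_)) ?_
      · rw [eq_inv_of_mul_eq_one_left h1]
        exact inv_mem hn
      · exact mem_centralizer_iff.1 hkn b (mem_zpowers b)
  apply hout
  have hcm : π ⟨a₁, hAR ha₁⟩ * π ⟨k₁, hRN hk₁⟩ = π ⟨k₁, hRN hk₁⟩ * π ⟨a₁, hAR ha₁⟩ :=
    (mem_centralizer_iff.1 (hle (mem_map_of_mem π (x := (⟨a₁, hAR ha₁⟩ : N)) ha₁)) _
      (mem_map_of_mem π (x := (⟨k₁, hRN hk₁⟩ : N)) hk₁)).symm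
  have h1 : π (⟨a₁, hAR ha₁⟩ * ⟨k₁, hRN hk₁⟩ * ⟨a₁, hAR ha₁⟩⁻¹ * ⟨k₁, hRN hk₁⟩⁻¹) = 1 := by
    rw [map_mul, map_mul, map_mul, map_inv, map_inv, hcm]
    group
  exact (hker _).1 h1

end CfsgLib.PGroup.FourPrimes
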