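import Cfsg.Agent.Lib.PGroup.FourPrimes.Tools
import Cfsg.Agent.Lib.PGroup.FourPrimes.CentralModulo
import Cfsg.Agent.Lib.Coprime.Solvable

/-!
# Two normal subgroups for different primes
-/

set_option autoImplicit false
set_option linter.style.haveILetI false
set_option linter.unusedSectionVars false

namespace CfsgLib.PGroup.FourPrimes

open Subgroup CfsgLib.Coprime

universe u

variable {G : Type u} [Group G] [Finite G]

/-- Abelian normal subgroups `U`, `V` of prime exponents `p`, `r`, and a `{q, s}`-subgroup `K` with a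
plane for both primes, in a group without triples. -/
structure TwoModules (p r q s : ℕ) (U V K : Subgroup G) : Prop where
  noTriple : NoTriple G
  solvable : Group.IsSolvable G
  pp : p.Prime
  rp : r.Prime
  qp : q.Prime
  sp : s.Prime
  pr : p ≠ r
  pq : p ≠ q
  ps : p ≠ s
  rq : r ≠ q
  rs : r ≠ s
  qs : q ≠ s
  Un : U.Normal
  Vn : V.Normal
  Uc : IsMulCommutative U
  Vc : IsMulCommutative V
  Upow : ∀ x ∈ U, x ^ p = 1
  Vpow : ∀ x ∈ V, x ^ r = 1
  U0 : U ≠ ⊥
  V0 : V ≠ ⊥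
  Kpi : IsPiNum {q, s} (Nat.card K)
  planeQ : ∃ E ≤ K, Plane q E
  planeS : ∃ E ≤ K, Plane s E

variable {p r q s : ℕ} {U V K : Subgroup G}

theorem TwoModules.swapUV (D : TwoModules p r q s U V K) : TwoModules r p q s V U K :=
  ⟨D.noTriple, D.solvable, D.rp, D.pp, D.qp, D.sp, D.pr.symm, D.rq, D.rs, D.pq, D.ps, D.qs,
    D.Vn, D.Un, D.Vc, D.Uc, D.Vpow, D.Upow, D.V0, D.U0, D.Kpi, D.planeQ, D.planeS⟩

theorem TwoModules.swapQS (D : TwoModules p r q s U V K) : TwoModules p r s q U V K :=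
  ⟨D.noTriple, D.solvable, D.pp, D.rp, D.sp, D.qp, D.pr, D.ps, D.pq, D.rs, D.rq, D.qs.symm,
    D.Un, D.Vn, D.Uc, D.Vc, D.Upow, D.Vpow, D.U0, D.V0, by
      have h := D.Kpi; rwa [Set.pair_comm] at h, D.planeS, D.planeQ⟩

theorem TwoModules.normalizesU (D : TwoModules p r q s U V K) (X : Subgroup G) :
    X ≤ normalizer (U : Set G) := by
  haveI := D.Un
  rw [normalizer_eq_top]
  exact le_top

theorem TwoModules.disjoint (D : TwoModules p r q s U V K) : Disjoint U V := by
  refine disjoint_of_coprime_natCard ?_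
  obtain ⟨i, hi⟩ := card_eq_pow D.pp D.Upow
  obtain ⟨j, hj⟩ := card_eq_pow D.rp D.Vpow
  rw [hi, hj]
  exact ((Nat.coprime_primes D.pp D.rp).2 D.pr).pow _ _

theorem TwoModules.commuteUV (D : TwoModules p r q s U V K) {u v : G} (hu : u ∈ U) (hv : v ∈ V) :
    Commute u v :=
  commute_of_normal_of_disjoint _ _ D.Un D.Vn D.disjoint u v hu hv

theorem TwoModules.orderU (D : TwoModules p r q s U V K) {u : G} (hu : u ∈ U) (hu1 : u ≠ 1) :
    orderOf u = p :=
  haveI := Fact.mk D.pp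
  orderOf_eq_prime (D.Upow u hu) hu1

theorem TwoModules.orderV (D : TwoModules p r q s U V K) {v : G} (hv : v ∈ V) (hv1 : v ≠ 1) :
    orderOf v = r :=
  D.swapUV.orderU hv hv1

/-- An element of another prime order does not fix points in both modules. -/
theorem TwoModules.not_both (D : TwoModules p r q s U V K) {e u v : G} (he : orderOf e = q)
    (hu : u ∈ U) (hu1 : u ≠ 1) (hv : v ∈ V) (hv1 : v ≠ 1) (heu : Commute e u) (hev : Commute e v) :
    False :=
  D.noTriple e u v (he ▸ D.qp) (D.orderU hu hu1 ▸ D.pp) (D.orderV hv hv1 ▸ D.rp)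
    (by rw [he, D.orderU hu hu1]; exact D.pq.symm) (by rw [he, D.orderV hv hv1]; exact D.rq.symm)
    (by rw [D.orderU hu hu1, D.orderV hv hv1]; exact D.pr) heu hev (D.commuteUV hu hv)

/-- A normal subgroup of order `q` of `K` acts without fixed points. -/
theorem TwoModules.line_fpf (D : TwoModules p r q s U V K) {b : G} (hbo : orderOf b = q)
    (hKb : K ≤ normalizer (zpowers b : Set G)) {u : G} (hu : u ∈ U)
    (hc : Commute b u) : u = 1 := by
  by_contra hu1
  haveI := Fact.mk D.rp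
  obtain ⟨Es, hEsK, hEs⟩ := D.planeS
  haveI := D.Un
  set R₁ := U ⊓ centralizer (zpowers b : Set G) with hR₁
  have huR : u ∈ R₁ := ⟨hu, mem_centralizer_iff.2 fun x hx => by
    obtain ⟨i, rfl⟩ := hx; exact (hc.zpow_left i).eq⟩
  have hER : Es ≤ normalizer (R₁ : Set G) := inf_le_normalizer (D.normalizesU _)
    ((hEsK.trans hKb).trans (normalizer_le_normalizer_centralizer _))
  obtain ⟨e, he, heo, u', hu', hu'1, hcu⟩ := hEs.exists_fixed hER
    (not_dvd_of_pow D.pp D.sp D.ps.symm fun x hx => D.Upow x hx.1) (fun h => hu1 (mem_bot.1 (h ▸ huR)))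
  have hbu : Commute b u' := mem_centralizer_iff.1 hu'.2 b (mem_zpowers b)
  by_cases heb : Commute e b
  · exact D.noTriple b e u' (hbo ▸ D.qp) (heo ▸ D.sp) (D.orderU hu'.1 hu'1 ▸ D.pp)
      (by rw [hbo, heo]; exact D.qs) (by rw [hbo, D.orderU hu'.1 hu'1]; exact D.pq.symm)
      (by rw [heo, D.orderU hu'.1 hu'1]; exact D.ps.symm) heb.symm hbu hcu
  have hbp : ∀ x ∈ zpowers b, x ^ q = 1 := fun x hx => by
    obtain ⟨i, rfl⟩ := hx
    rw [← zpow_natCast, ← zpow_mul, mul_comm, zpow_mul, zpow_natCast, ← hbo, pow_orderOf_eq_one,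
      one_zpow]
  obtain ⟨v, hv, hv1, hcv⟩ := exists_fixed_of_move (r := r) (B := zpowers b) (R := V) (d := e)
    D.qp inferInstance hbp D.rq (heo ▸ D.sp) (heo ▸ D.qs.symm) (heo ▸ D.rs.symm)
    (hKb (hEsK he)) (fun x => ⟨1, Subtype.ext (by simpa using D.Vpow x x.2)⟩)
    (D.swapUV.normalizesU _) (D.swapUV.normalizesU ⊤ (mem_top e))
    (fun x hx hfix => by
      by_contra hx1
      obtain ⟨v, hv, hv1⟩ := V.bot_or_exists_ne_one.resolve_left D.V0
      have hbv : Commute b v :=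
        (commute_of_mem_zpowers (hbo ▸ D.qp) hx hx1 (hfix v hv).symm).symm
      exact D.not_both hbo hu hu1 hv hv1 hc hbv)
    ⟨b, mem_zpowers b, heb⟩
  exact D.swapQS.not_both heo hu'.1 hu'1 hv hv1 hcu hcv

theorem TwoModules.line_fpfV (D : TwoModules p r q s U V K) {b : G} (hbo : orderOf b = q)
    (hKb : K ≤ normalizer (zpowers b : Set G)) {v : G} (hv : v ∈ V) (hc : Commute b v) : v = 1 :=
  D.swapUV.line_fpf hbo hKb hv hc

theorem TwoModules.solvableK (D : TwoModules p r q s U V K) (X : Subgroup G) : Group.IsSolvable X :=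
  haveI := D.solvable
  inferInstance

/-- `K` acts faithfully on `U`. -/
theorem TwoModules.faithful (D : TwoModules p r q s U V K) : K ⊓ centralizer (U : Set G) = ⊥ := by
  by_contra h0
  haveI := D.Un
  obtain ⟨B, t, ht, hBN, hB0, hKB, hBc, hBt, htd, -⟩ := exists_minimal_invariant (D.solvableK _) h0
    (inf_le_normalizer le_normalizer (by
      refine le_trans ?_ (normalizer_le_normalizer_centralizer U)
      exact D.normalizesU K))
  haveI := Fact.mk ht
  have htqs : t = q ∨ t = s := D.Kpi t ht (htd.trans (card_dvd_of_le inf_le_left))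
  obtain ⟨u, hu, hu1⟩ := U.bot_or_exists_ne_one.resolve_left D.U0
  have hBU : ∀ b ∈ B, Commute b u := fun b hb => (mem_centralizer_iff.1 (hBN hb).2 u hu).symm
  rcases plane_or_zpowers ht hB0 hBc hBt with hP | ⟨b, hb, rfl⟩
  · obtain ⟨e, he, heo, v, hv, hv1, hc⟩ := hP.exists_fixed (R := V) (D.swapUV.normalizesU _)
      (not_dvd_of_pow D.rp ht (by rcases htqs with rfl | rfl; exacts [D.rq.symm, D.rs.symm]) D.Vpow)
      D.V0
    rcases htqs with rfl | rfl
    · exact D.not_both heo hu hu1 hv hv1 (hBU e he) hc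
    · exact D.swapQS.not_both heo hu hu1 hv hv1 (hBU e he) hc
  · rcases htqs with rfl | rfl
    · exact hu1 (D.line_fpf hb hKB hu (hBU b (mem_zpowers b)))
    · exact hu1 (D.swapQS.line_fpf hb hKB hu (hBU b (mem_zpowers b)))

/-- `K` normalizes no plane inside it. -/
theorem TwoModules.no_plane (D : TwoModules p r q s U V K) {B : Subgroup G} (hBK : B ≤ K)
    (hKB : K ≤ normalizer (B : Set G)) (hB : Plane q B) : False := by
  haveI := Fact.mk D.rp
  haveI := hB.comm
  obtain ⟨Es, hEsK, hEs⟩ := D.planeS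
  haveI := D.Un
  obtain ⟨d, hd, hdo, u, hu, hu1, hdu⟩ := hEs.exists_fixed (R := U) (D.normalizesU _)
    (not_dvd_of_pow D.pp D.sp D.ps.symm D.Upow) D.U0
  by_cases hmove : ∃ x ∈ B, ¬ Commute d x
  · obtain ⟨v, hv, hv1, hcv⟩ := exists_fixed_of_move (r := r) (B := B) (R := V) (d := d)
      D.qp hB.comm hB.pow D.rq (hdo ▸ D.sp) (hdo ▸ D.qs.symm) (hdo ▸ D.rs.symm) (hKB (hEsK hd))
      (fun x => ⟨1, Subtype.ext (by simpa using D.Vpow x x.2)⟩)
      (D.swapUV.normalizesU _) (D.swapUV.normalizesU ⊤ (mem_top d))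
      (fun x hx hfix => mem_bot.1 (D.swapUV.faithful ▸
        (show x ∈ K ⊓ centralizer (V : Set G) from ⟨hBK hx, mem_centralizer_iff.2 fun v hv =>
          (hfix v hv).symm.eq⟩)))
      hmove
    exact D.swapQS.not_both hdo hu hu1 hv hv1 hdu hcv
  push Not at hmove
  set R₁ := U ⊓ centralizer (zpowers d : Set G) with hR₁
  have huR : u ∈ R₁ := ⟨hu, mem_centralizer_iff.2 fun x hx => by
    obtain ⟨i, rfl⟩ := hx; exact (hdu.zpow_left i).eq⟩
  have hBd : B ≤ centralizer (zpowers d : Set G) := fun x hx => mem_centralizer_iff.2 fun y hy => by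
    obtain ⟨i, rfl⟩ := hy; exact ((hmove x hx).zpow_left i).eq
  obtain ⟨e, he, heo, u', hu', hu'1, hcu⟩ := hB.exists_fixed (R := R₁)
    (inf_le_normalizer (D.normalizesU _)
      (hBd.trans le_normalizer))
    (not_dvd_of_pow D.pp D.qp D.pq.symm fun x hx => D.Upow x hx.1)
    (fun h => hu1 (mem_bot.1 (h ▸ huR)))
  exact D.noTriple e d u' (heo ▸ D.qp) (hdo ▸ D.sp) (D.orderU hu'.1 hu'1 ▸ D.pp)
    (by rw [heo, hdo]; exact D.qs) (by rw [heo, D.orderU hu'.1 hu'1]; exact D.pq.symm)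
    (by rw [hdo, D.orderU hu'.1 hu'1]; exact D.ps.symm) (hmove e he).symm hcu
    (mem_centralizer_iff.1 hu'.2 d (mem_zpowers d))

/-- A normal line of `K` has odd order. -/
theorem TwoModules.odd_line (D : TwoModules p r q s U V K) {b : G} (hbK : b ∈ K) (hbo : orderOf b = q)
    (hKb : K ≤ normalizer (zpowers b : Set G)) : q ≠ 2 := by
  intro hq2
  haveI := D.Un
  have hb2 : orderOf b = 2 := hbo.trans hq2
  obtain ⟨Eq, hEqK, hEq⟩ := D.planeQ
  obtain ⟨e, he, heb⟩ : ∃ e ∈ Eq, e ∉ zpowers b := by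
    by_contra h
    push Not at h
    exact hEq.not_cyclic (isCyclic_of_le (show Eq ≤ zpowers b from h))
  have he1 : e ≠ 1 := fun h => heb (h ▸ one_mem _)
  have heo := hEq.orderOf_eq he he1
  have key : ∀ {p r : ℕ} {U V : Subgroup G}, TwoModules p r q s U V K →
      ∃ u ∈ U, u ≠ 1 ∧ Commute e u := by
    intro p r U V D
    haveI := D.Un
    by_contra hne
    push Not at hne
    have hfpf : ∀ a : G, orderOf a = 2 → (∀ u ∈ U, Commute a u → u = 1) →
        ∀ u ∈ U, a * u * a⁻¹ = u⁻¹ := by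
      intro a ha2 hfix
      refine IsFpfOn.involution_inverts (A := zpowers a) (D.normalizesU _) ?_ (mem_zpowers a) ha2
      intro x hx hx1
      refine (eq_bot_iff_forall _).2 fun v hv => hfix v hv.1 ?_
      exact (commute_of_mem_zpowers (ha2 ▸ Nat.prime_two) hx hx1
        (mem_centralizer_singleton_iff.1 hv.2)).symm
    have hb' := hfpf b hb2 fun u hu hc => D.line_fpf hbo hKb hu hc
    have he' := hfpf e (heo.trans hq2) fun u hu hc => by_contra fun hu1 => hne u hu hu1 hc
    have hmem : e * b ∈ K ⊓ centralizer (U : Set G) := by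
      refine ⟨mul_mem (hEqK he) hbK, mem_centralizer_iff.2 fun u hu => ?_⟩
      have h1 : e * b * u * (e * b)⁻¹ = u := by
        calc e * b * u * (e * b)⁻¹ = e * (b * u * b⁻¹) * e⁻¹ := by group
          _ = e * u⁻¹ * e⁻¹ := by rw [hb' u hu]
          _ = u := by rw [he' u⁻¹ (inv_mem hu), inv_inv]
      exact (mul_inv_eq_iff_eq_mul.1 h1).symm
    rw [D.faithful, mem_bot] at hmem
    exact heb (by rw [eq_inv_of_mul_eq_one_left hmem]; exact inv_mem (mem_zpowers b))
  obtain ⟨u, hu, hu1, heu⟩ := key D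
  obtain ⟨v, hv, hv1, hev⟩ := key D.swapUV
  exact D.not_both heo hu hu1 hv hv1 heu hev

/-- No element of order `q` is conjugate to its product with a normal line. -/
theorem TwoModules.no_config (D : TwoModules p r q s U V K) {b e g h : G}
    (hbo : orderOf b = q) (hKb : K ≤ normalizer (zpowers b : Set G)) (heo : orderOf e = q)
    (heb : Commute e b) (hgb : Commute g b) (hh : h ∈ zpowers b) (hh1 : h ≠ 1)
    (hconj : g * e * g⁻¹ = e * h) : False := by
  haveI := Fact.mk D.qp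
  have hebn : e ∉ zpowers b := by
    rintro ⟨i, rfl⟩
    rw [(hgb.zpow_right i).eq, mul_inv_cancel_right] at hconj
    exact hh1 (by simpa using hconj)
  have hb1 : b ≠ 1 := fun h1 => by rw [h1, orderOf_one] at hbo; exact D.qp.ne_one hbo.symm
  have hP := plane_of_pair D.qp (hbo ▸ pow_orderOf_eq_one b) (heo ▸ pow_orderOf_eq_one e) hb1 heb.symm hebn
  have hgh : ∀ x ∈ zpowers b, Commute g x := fun x hx => by
    obtain ⟨i, rfl⟩ := hx; exact hgb.zpow_right i
  have heh : ∀ x ∈ zpowers b, Commute e x := fun x hx => by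
    obtain ⟨i, rfl⟩ := hx; exact heb.zpow_right i
  have hiter : ∀ m : ℕ, g ^ m * e * (g ^ m)⁻¹ = e * h ^ m := by
    intro m
    induction m with
    | zero => simp
    | succ m ih =>
      calc g ^ (m + 1) * e * (g ^ (m + 1))⁻¹ = g * (g ^ m * e * (g ^ m)⁻¹) * g⁻¹ := by
            rw [pow_succ']; group
        _ = (g * e * g⁻¹) * (g * h ^ m * g⁻¹) := by rw [ih]; group
        _ = e * h ^ (m + 1) := by
          rw [hconj, (hgh _ (pow_mem hh m)).eq, mul_inv_cancel_right, pow_succ', mul_assoc]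
  have key : ∀ {p r : ℕ} {U V : Subgroup G}, TwoModules p r q s U V K →
      ∃ u ∈ U, u ≠ 1 ∧ Commute e u := by
    intro p r U V D
    haveI := D.Un
    obtain ⟨x, hx, hxo, u, hu, hu1, hxu⟩ := hP.exists_fixed (R := U) (D.normalizesU _)
      (not_dvd_of_pow D.pp D.qp D.pq.symm D.Upow) D.U0
    have hle : closure ({b, e} : Set G) ≤ zpowers b ⊔ zpowers e := (closure_le _).2 (by
      rintro v (rfl | rfl)
      exacts [mem_sup_left (mem_zpowers _), mem_sup_right (mem_zpowers _)])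
    obtain ⟨n, hn, k, hk, rfl⟩ := mem_sup_exists (N := zpowers b) (H := zpowers e)
      (zpowers_le.2 (centralizer_le_normalizer _
        (mem_centralizer_iff.2 fun v hv => (heh v hv).symm.eq))) (hle hx)
    obtain ⟨i, rfl⟩ := mem_powers_iff_mem_zpowers.2 hk
    replace hxu : Commute (n * e ^ i) u := hxu
    replace hxo : orderOf (n * e ^ i) = q := hxo
    have hei : e ^ i ≠ 1 := fun h0 => hu1 (D.line_fpf hbo hKb hu (by
      rw [show (e ^ i : G) = 1 from h0, mul_one] at hxu hxo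
      exact (commute_of_mem_zpowers (hbo ▸ D.qp) hn
        (fun h1 => by rw [h1, orderOf_one] at hxo; exact D.qp.ne_one hxo.symm) hxu.symm).symm))
    have hhi : h ^ i ≠ 1 := fun h0 => hei (by
      refine orderOf_dvd_iff_pow_eq_one.1 ?_
      have hho : orderOf h = q := by
        obtain ⟨j, rfl⟩ := hh
        refine orderOf_eq_prime ?_ hh1
        rw [← zpow_natCast, ← zpow_mul, mul_comm, zpow_mul, zpow_natCast, ← hbo, pow_orderOf_eq_one,
          one_zpow]
      rw [heo, ← hho]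
      exact orderOf_dvd_iff_pow_eq_one.2 h0)
    have hgen : n ∈ zpowers (h ^ i) := by
      have h1 : zpowers (h ^ i) = zpowers b := eq_of_le_of_card_ge (zpowers_le.2 (pow_mem hh i)) (by
        have hb' : (h ^ i) ^ q = 1 := by
          obtain ⟨j, hj⟩ := pow_mem hh i
          rw [← hj, ← zpow_natCast, ← zpow_mul, mul_comm, zpow_mul, zpow_natCast, ← hbo,
            pow_orderOf_eq_one, one_zpow]
        rw [Nat.card_zpowers, Nat.card_zpowers, hbo, orderOf_eq_prime hb' hhi])
      exact h1 ▸ hn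
    obtain ⟨m, hm⟩ := mem_powers_iff_mem_zpowers.2 hgen
    have hx' : g ^ m * e ^ i * (g ^ m)⁻¹ = n * e ^ i := by
      rw [← conj_pow, hiter, (heh h hh).pow_right m |>.mul_pow, ← pow_mul, mul_comm m i, pow_mul,
        show (h ^ i) ^ m = n from hm, ((heh n hn).pow_left i).eq]
    have hxu' : Commute (g ^ m * e ^ i * (g ^ m)⁻¹) u := hx'.symm ▸ hxu
    refine ⟨(g ^ m)⁻¹ * u * g ^ m, by simpa using D.Un.conj_mem u hu (g ^ m)⁻¹, fun h0 => hu1 ?_, ?_⟩
    · calc u = g ^ m * ((g ^ m)⁻¹ * u * g ^ m) * (g ^ m)⁻¹ := by group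
        _ = 1 := by rw [h0]; group
    · refine (commute_of_mem_zpowers (heo ▸ D.qp) (npow_mem_zpowers e i) hei ?_).symm
      refine (show Commute (e ^ i) ((g ^ m)⁻¹ * u * g ^ m) from ?_).symm
      calc e ^ i * ((g ^ m)⁻¹ * u * g ^ m)
          = (g ^ m)⁻¹ * ((g ^ m * e ^ i * (g ^ m)⁻¹) * u) * g ^ m := by group
        _ = (g ^ m)⁻¹ * (u * (g ^ m * e ^ i * (g ^ m)⁻¹)) * g ^ m := by rw [hxu'.eq]
        _ = (g ^ m)⁻¹ * u * g ^ m * e ^ i := by group
  obtain ⟨u, hu, hu1, heu⟩ := key D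
  obtain ⟨v, hv, hv1, hev⟩ := key D.swapUV
  exact D.not_both heo hu hu1 hv hv1 heu hev

end CfsgLib.PGroup.FourPrimes
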